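import Cfsg.Agent.TO.G2D.D4L
import Cfsg.Agent.S2110

/-!
# S4817, `³D₄(q)` in cross characteristic (helper87)

`three_of` : the count of the lines of a pure plane leaves `p = 3`; `false_3` : the plane is totally singular, its
centralizer is a torus of odd order; `row_td4` : the row.
-/

set_option autoImplicit false
set_option linter.unusedSectionVars false

namespace Cfsg.Agent.TO.G2D

open Cfsg Cfsg.Lie Cfsg.Agent.DL Matrix Cfsg.Agent.BHZ.Nil Cfsg.Agent.KZ.DatX Cfsg.Agent.Nodes Cfsg.Agent.KZ.ClD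
  Cfsg.Agent.ChevalleyStructure.CoxeterGeomTypes

section Main

variable {G : Type} [Group G] [Finite G] {k : Type} [Field k] {D : Subgroup G} {A : Subgroup (MulAut G)} {ζ : kˣ}
  {z x : G} {r : ℕ} [Fact r.Prime] [CharP k r]

theorem three_of {p : ℕ} [hp : Fact p.Prime] {m : M4} (hm : m ∈ LW) {q : ℤ} (hq : ¬ (p : ℤ) ∣ q)
    (f : Fm (Fin 4) k G p (X.Rt chevD4 4) coD (X.WM chevD4 4) (AdmF r) (toM m * q • P4))
    (P : Pure p G A D) (L : Pl D z x) (hz : z ∈ f.T) (hx : x ∈ f.T) :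
    p = 3 ∧ ∀ a, X.Rt chevD4 4 a → ¬ (chr a (f.c z) = 1 ∧ chr a (f.c x) = 1) := by
  have h0 : ∀ a : V4, ∀ g ∈ f.T, g ^ p = 1 →
      (chr (toV (vm a (mm m p4))) (f.c g) = 1 ↔ chr (toV a) (f.c g) = 1) := fun a g hg h => by
    have h1 : chr (toV (vm a (mm m p4))) (f.c g) ^ q = chr (toV a) (f.c g) := by
      rw [← chr_zsmul, toV_vm, toM_mm, ← P4_eq, ← vecMul_smul, ← mul_smul_comm, ← chr_mon, f.fix g hg]
    exact ⟨fun e => by rw [← h1, e, _root_.one_zpow],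
      fun e => eq_one_of_cop (p := p) (by rw [← map_pow, f.c_p hg h, map_one]) hq (h1.trans e)⟩
  obtain ⟨a, ha, h1, h2⟩ : ∃ a ∈ rD, (six (mm m p4) a).Nodup ∧
      ¬ (chr (toV a) (f.c z) = 1 ∧ chr (toV a) (f.c x) = 1) := by
    by_contra h
    have h : ∀ a ∈ rD, (six (mm m p4) a).Nodup → chr (toV a) (f.c z) = 1 := fun a ha h1 =>
      by_contra fun h2 => h ⟨a, ha, h1, fun h3 => h2 h3.1⟩
    refine L.ne (f.eq_one hz (eq_one_of_chr fun i => ?_))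
    obtain ⟨a, ha, e⟩ := (by decide +kernel : ∀ i, ∃ a ∈ rD.take 4, toV a = Pi.single i 1) i
    rw [← e]
    rcases (ckD2 m hm).2 a ha with h1 | ⟨b, hb, h1, c, hc, rfl, h2⟩
    · exact h a (List.mem_of_mem_take ha) h1
    · rw [toV_add, chr_add, h b hb h1, h c hc h2, one_mul]
  have hn : ∀ a ∈ rD, -a ∈ rD := by decide +kernel
  have h3 := (ckD2 m hm).1
  have hs : ∀ b ∈ six (mm m p4) a, b ∈ rD ∧ ∀ g ∈ f.T, g ^ p = 1 →
      (chr (toV b) (f.c g) = 1 ↔ chr (toV a) (f.c g) = 1) := fun b hb => by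
    simp only [six, List.mem_cons, List.not_mem_nil, or_false] at hb
    rcases hb with rfl | rfl | rfl | rfl | rfl | rfl
    · exact ⟨ha, fun _ _ _ => Iff.rfl⟩
    · exact ⟨hn _ ha, fun _ _ _ => by rw [toV_neg, chr_neg, inv_eq_one]⟩
    · exact ⟨h3 _ ha, h0 a⟩
    · exact ⟨hn _ (h3 _ ha), fun g hg h => by rw [toV_neg, chr_neg, inv_eq_one, h0 a g hg h]⟩
    · exact ⟨h3 _ (h3 _ ha), fun g hg h => (h0 _ g hg h).trans (h0 a g hg h)⟩
    · exact ⟨hn _ (h3 _ (h3 _ ha)), fun g hg h => by rw [toV_neg, chr_neg, inv_eq_one, h0 _ g hg h, h0 a g hg h]⟩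
  have h4 := f.cnt (Φ := fD) (fun _ => pm_wm (r := r) ckD0) (fun _ ⟨j, h⟩ => h ▸ pm_smul _ j) P L hz hx h2
    (U := ((six (mm m p4) a).map toV).toFinset) (fun b hb => by
      obtain ⟨b, h, rfl⟩ := List.mem_map.1 (List.mem_toFinset.1 hb)
      exact mem_fD.2 ⟨b, (hs b h).1, rfl⟩) fun b hb => by
      obtain ⟨b, h, rfl⟩ := List.mem_map.1 (List.mem_toFinset.1 hb)
      exact (hs b h).2
  rw [List.toFinset_card_of_nodup (h1.map toV_inj), card_fD,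
    show ((six (mm m p4) a).map toV).length = 6 from rfl] at h4
  have h5 := hp.out.two_le
  have h6 := P.odd
  refine ⟨by omega, fun b hb h => ?_⟩
  have h7 := Finset.card_pos.2 ⟨b, Finset.mem_inter.2 ⟨mem_Kl.2 ⟨mem_fD.2 (rt_D.1 hb), h.1⟩,
    mem_Kl.2 ⟨mem_fD.2 (rt_D.1 hb), h.2⟩⟩⟩
  omega

variable [Fact (Nat.Prime 3)] {N : Matrix (Fin 4) (Fin 4) ℤ}

theorem e3_coch (hζ : IsPrimitiveRoot ζ 3) {u v : V4} : coch (toV u) ζ = coch (toV v) ζ ↔ e3 u v = true :=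
  (coch_eq hζ).trans e3_iff.symm

theorem coch_n (hζ : IsPrimitiveRoot ζ 3) {n : ℤ} (hn : 3 ∣ n - 1) (v : Fin 4 → ℤ) : coch (n • v) ζ = coch v ζ :=
  (coch_eq hζ).2 fun i => by
    rw [Pi.smul_apply, smul_eq_mul, ← sub_one_mul]
    exact hn.mul_right _

/-- the form is constant on the elements of order three -/
theorem qD_conj (f : Fm (Fin 4) k G 3 (X.Rt chevD4 4) coD (X.WM chevD4 4) (AdmF r) N) (hr : 3 ≠ r)
    (hζ : IsPrimitiveRoot ζ 3) (P : Pure 3 G A D) {u u' : G} (h1 : u ∈ KK 3 D) (h2 : u' ∈ KK 3 D) (h3 : u ≠ 1)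
    (h4 : u' ≠ 1) {v v' : Fin 4 → ℤ} (h5 : f.Cj u (coch v ζ)) (h6 : f.Cj u' (coch v' ζ)) : 3 ∣ qD v' - qD v := by
  obtain ⟨σ, -, rfl⟩ := P.conj u h1 u' h2 (pElt_iff.2 ⟨1, (f.cj_pow _ _ h5 3).2 (coch_p hζ v)⟩)
    (pElt_iff.2 ⟨1, (f.cj_pow _ _ h6 3).2 (coch_p hζ v')⟩) h3 h4
  obtain ⟨W, _, h7, ⟨j, rfl⟩, h8⟩ := f.aut σ u _ _ h5 h6
  rw [mon_coch, coch_eq hζ, ← mulVec_mulVec, smul_mulVec, one_mulVec] at h8
  have h9 := qD_cong h8
  rw [qD_wm h7, qD_smul] at h9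
  have h10 : ¬ (3 : ℤ) ∣ (r : ℤ) ^ j := fun h => hr ((Nat.prime_dvd_prime_iff_eq Nat.prime_three Fact.out).1
    (Nat.prime_three.dvd_of_dvd_pow (n := j) (by exact_mod_cast h)))
  generalize (r : ℤ) ^ j = c at h9 h10
  obtain ⟨d, hd⟩ := h9
  obtain ⟨t, rfl | rfl⟩ : ∃ t, c = 3 * t + 1 ∨ c = 3 * t - 1 := ⟨(c + 1) / 3, by omega⟩
  · exact ⟨d + (3 * t ^ 2 + 2 * t) * qD v, by linear_combination hd⟩
  · exact ⟨d + (3 * t ^ 2 - 2 * t) * qD v, by linear_combination hd⟩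

theorem false_3 (B : Blk) {M : Ideal AlgInt} {b : Set (IrrCharacter G)} (H : Two 3 M b D) (hG : commutator G = ⊤)
    (f : Fm (Fin 4) k G 3 (X.Rt chevD4 4) coD (X.WM chevD4 4) (AdmF r) N) (hr : 3 ≠ r) (hζ : IsPrimitiveRoot ζ 3)
    (P : Pure 3 G A D) (L : Pl D z x) (hz : z ∈ f.T) (hx : x ∈ f.T) {m : M4} (hm : m ∈ LW) {s : ℤ} (hs : s ∈ [1, -1])
    {n : ℤ} (hn : 3 ∣ n - 1) (hN : N = n • toM (sm4 s (mm m p4)))
    (hk : ∀ a, X.Rt chevD4 4 a → ¬ (chr a (f.c z) = 1 ∧ chr a (f.c x) = 1)) : False := by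
  have vec : ∀ g ∈ f.T, g ^ 3 = 1 → ∃ w ∈ A3, f.c g = coch (toV w) ζ ∧ e3 (mv (sm4 s (mm m p4)) w) w = true :=
    fun g hg h => by
      obtain ⟨w, h1, h2⟩ := exists_vec hζ (f.c_p hg h)
      obtain ⟨w, h3, rfl⟩ := exists_A3 h1
      have h4 := f.fix g hg
      rw [h2, mon_coch, hN, smul_mulVec, coch_n hζ hn, ← toV_mv, e3_coch hζ] at h4
      exact ⟨w, h3, h2, h4⟩
  obtain ⟨v, v1, v2, v3⟩ := vec z hz (pow_p P L.hz)
  obtain ⟨u, u1, u2, u3⟩ := vec x hx (pow_p P L.hx)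
  have qc : ∀ g ∈ D, g ∈ f.T → g ≠ 1 → ∀ w, f.c g = coch w ζ → 3 ∣ qD w - qD (toV v) := fun g h1 h2 h3 w e =>
    qD_conj f hr hζ P (self_le_KK D L.hz) (self_le_KK D h1) L.ne h3 (v2 ▸ f.cj z hz) (e ▸ f.cj g h2)
  have q1 := qc x L.hx hx (fun e => L.nm (e ▸ one_mem _)) _ u2
  have q2 := qc (z * x) (mul_mem L.hz L.hx) (mul_mem hz hx)
    (fun e => L.nm (eq_inv_of_mul_eq_one_right e ▸ inv_mem (Subgroup.mem_zpowers z))) (toV v + toV u)
    (by rw [f.mul _ hz _ hx, v2, u2, coch_add])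
  have q3 := qc (z * x⁻¹) (mul_mem L.hz (inv_mem L.hx)) (mul_mem hz (inv_mem hx))
    (fun e => L.nm (mul_inv_eq_one.1 e ▸ Subgroup.mem_zpowers z)) (toV v + -toV u)
    (by rw [f.mul _ hz _ (inv_mem hx), f.c_inv hx, v2, u2, coch_add, coch_neg])
  have q4 := qD_par (toV v) (toV u)
  have s1 : 3 ∣ qD (toV v) := by omega
  have s2 : 3 ∣ qD (toV u) := by omega
  have s3 : 3 ∣ qD (toV (v + u)) := by rw [toV_add]; omega
  have cz : ∀ (w : V4) (i : ℤ), coch (toV w) ζ ^ i = coch (toV (sc i w)) ζ := fun w i => by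
    rw [toV_sc, coch_zsmul, map_zpow]
  have nz : e3 v 0 = false := Bool.eq_false_iff.2 fun e => L.ne (f.eq_one hz (by
    rw [v2, (e3_coch hζ).2 e, toV_zero]
    exact funext fun _ => zpow_zero _))
  have ind : ∀ i ∈ [(0 : ℤ), 1, 2], e3 (sc i v) u = false := fun i _ => Bool.eq_false_iff.2 fun e =>
    L.nm ⟨i, f.inj _ (zpow_mem hz i) _ hx (by rw [f.c_zpow hz, v2, u2, cz, (e3_coch hζ).2 e])⟩
  have fw : ∀ W, X.WM chevD4 4 W → ∀ t ∈ [(1 : ℤ), -1], mon W (f.c z) = f.c z ^ t → mon W (f.c x) = f.c x ^ t →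
      W = t • 1 := fun W hW t ht h1 h2 => by
    obtain ⟨w, hw, rfl⟩ := wm_D hW
    rw [v2, cz, mon_coch, ← toV_mv, e3_coch hζ] at h1
    rw [u2, cz, mon_coch, ← toV_mv, e3_coch hζ] at h2
    rw [ckD3 w hw t ht v v1 s1 h1 nz u u1 s2 h2 s3 ind, toM_sm4, toM_m1]
  have h8 := ckD4 m hm s hs v v1 s1 v3 nz u u1 s2 u3 s3 ind
  generalize sm4 s (mm m p4) = g at hN vec v3 u3 h8
  have nr : ∀ Z : Set G, Z ⊆ f.T → z ∈ Z → x ∈ Z → _ := fun Z h1 h2 h3 => f.nrm Z h1 fun a ha =>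
    (not_and_or.1 (hk a ha)).elim (fun h => ⟨z, h2, h⟩) fun h => ⟨x, h3, h⟩
  have cT : ∀ y ∈ Ce D, y ∈ f.T := fun y hy => by
    have h0 := Subgroup.mem_centralizer_iff.1 hy
    obtain ⟨W, h1, -, h2, h3, -⟩ := nr {z, x} (Set.pair_subset hz hx) (.inl rfl) (.inr rfl) y (by
      rintro _ (rfl | rfl)
      · exact .inl (by rw [mul_assoc, h0 _ L.hz, inv_mul_cancel_left])
      · exact .inr (by rw [mul_assoc, h0 _ L.hx, inv_mul_cancel_left]; rfl))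
    refine h3 ((fw W h1 1 (by simp) ?_ ?_).trans (one_smul _ _))
    · rw [← (h2 z hz).2, ← h0 _ L.hz, mul_inv_cancel_right, zpow_one]
    · rw [← (h2 x hx).2, ← h0 _ L.hx, mul_inv_cancel_right, zpow_one]
  by_cases hT : D ≤ f.T
  · have h9 := card_sq P L fun y hy => by
      obtain ⟨w, w1, w2, w3⟩ := vec y (hT hy) (pow_p P hy)
      obtain ⟨i, -, j, -, e⟩ := (ckD5 g h8).2 v v1 v3 nz u u1 u3 ind w w1 w3
      refine ⟨i, j, f.inj _ (hT hy) _ (mul_mem (zpow_mem hz i) (zpow_mem hx j)) ?_⟩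
      rw [f.mul _ (zpow_mem hz i) _ (zpow_mem hx j), f.c_zpow hz, f.c_zpow hx, v2, u2, w2, cz, cz, (e3_coch hζ).2 e,
        toV_add, coch_add]
    have hC : Ce D = f.T := le_antisymm cT (f.T_le hT)
    obtain ⟨θ, h⟩ := B.can0 G 3 M b D H.hM H.hb H.hD (hC ▸ hT)
    obtain ⟨t, ht, h1⟩ := B.neg G 3 M b D θ H h (.inr h9)
    obtain ⟨W, h2, -, h3, -⟩ := nr D hT L.hz L.hx t fun y hy => (Subgroup.mem_normalizer_iff''.1 (In_le_norm ht) y).1 hy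
    obtain rfl := fw W h2 (-1) (by simp) (by rw [← (h3 z hz).2, h1 z L.hz, f.c_inv hz, _root_.zpow_neg_one])
      (by rw [← (h3 x hx).2, h1 x L.hx, f.c_inv hx, _root_.zpow_neg_one])
    refine B.false_of_kr H hG h fun y hy _ => ?_
    have h4 := cT y hy
    refine h.kr_of_inv ht hy (hC ▸ f.T_le le_rfl h4) (f.inj _ (h3 y h4).1 _ (inv_mem h4) ?_)
      (m := (n * n + n + 1).natAbs) (Int.natAbs_odd.2 ?_) ?_
    · rw [(h3 y h4).2, f.c_inv h4, mon_zsmul, mon_one, _root_.zpow_neg_one]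
    · rw [← mul_add_one]
      exact (Int.even_mul_succ_self n).add_one
    · have h5 : N * N + n • N + (n * n) • 1 = 0 := by
        rw [hN, smul_mul_smul_comm, smul_smul, ← smul_add, ← smul_add, ← toM_mm, ← toM_m1, ← toM_add, ← toM_add,
          (ckD5 g h8).1, toM_zero, smul_zero]
      have h6 := congrArg (mon · (f.c y)) h5
      simp only [mon_add, mon_mul, mon_zsmul, mon_one, f.fix y h4] at h6
      have h7 : y ^ (n * n + n + 1) = 1 := f.eq_one (zpow_mem h4 _) (by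
        rw [f.c_zpow h4, _root_.zpow_add, _root_.zpow_add, zpow_one, mul_comm, mul_comm _ (f.c y ^ n), ← mul_assoc, h6]
        exact funext fun i => chr_zero (f.c y))
      rw [pow_natAbs_eq_one.2 h7]
      exact one_mem _
  · obtain ⟨y, h1, h2, h3⟩ := exists_nrm P.pg hT
    obtain ⟨W, h4, h5, h6, h7, h9⟩ := nr (D ⊓ f.T : Subgroup G) (fun _ h => h.2) ⟨L.hz, hz⟩ ⟨L.hx, hx⟩ y h3
    obtain ⟨w, hw, rfl⟩ := wm_D h4
    have n0 : n ≠ 0 := by omega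
    obtain ⟨a, ha, a0, a', ha', a1, x₀, -, x1, x2⟩ := ckD6 g h8 w hw
      (toM_inj (by rw [toM_mm, toM_mm, toM_m1, ← pow_two, ← pow_succ']; exact h9 3 (pow_p P h1)))
      (fun e => h2 (h7 (e ▸ toM_m1))) (toM_inj (by
        rw [hN, mul_smul_comm, smul_mul_assoc] at h5
        rw [toM_mm, toM_mm]
        exact smul_right_injective _ n0 h5))
    have kl : ∀ a : V4, a + vm a w + vm (vm a w) w = 0 → ∀ c ∈ Ce D, ¬ 3 ∣ orderOf c → chr (toV a) (f.c c) = 1 := by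
      intro a e c hc h
      have k1 := (h6 c (cT c hc)).2
      rw [Subgroup.mem_centralizer_iff.1 hc y h1, mul_inv_cancel_right] at k1
      have k2 : ∀ a : V4, chr (toV (vm a w)) (f.c c) = chr (toV a) (f.c c) := fun a => by
        rw [toV_vm, ← chr_mon, ← k1]
      have k3 := congrArg (fun a => chr (toV a) (f.c c)) e
      simp only [toV_add, chr_add, k2, toV_zero, chr_zero] at k3
      refine eq_one_of_cop (p := 3) (by rw [← k3, pow_succ, pow_two]) (fun h' => h (Int.natCast_dvd_natCast.1 h')) ?_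
      rw [zpow_natCast, ← map_pow, f.c_p (cT c hc) (pow_orderOf_eq_one c), map_one]
    obtain ⟨t, t1, t2⟩ := f.lt {c | c ∈ Ce D ∧ ¬ 3 ∣ orderOf c} (fun c h => cT c h.1) _ _ (rt_D.2 ⟨a, ha, rfl⟩)
      (rt_D.2 ⟨a', ha', rfl⟩) (fun c h => ⟨kl a a0 c h.1 h.2, kl a' a1 c h.1 h.2⟩) (coch (toV x₀) ζ) (by
        rw [mon_coch, hN, mul_smul_comm, smul_mulVec, coch_n hζ hn, ← mulVec_mulVec, ← mulVec_mulVec, ← toV_mv, ← toV_rv,
          ← toV_rv, e3_coch hζ, x2])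
    have t3 := qD_conj f hr hζ P (self_le_KK D L.hz) (mem_KK_iff.2 fun c h h' => t2 c ⟨h, h'⟩) L.ne (fun e => x1 (by
      have t4 := (f.cj_pow _ _ t1 1).1 (by rw [e, one_pow])
      have t5 := qD_cong (u := toV x₀) (v := 0) fun i => by
        rw [Pi.zero_apply, sub_zero]
        exact (hζ.zpow_eq_one_iff_dvd _).1 (congrFun ((pow_one _).symm.trans t4) i)
      rwa [show qD 0 = 0 from rfl, sub_zero] at t5)) (v2 ▸ f.cj z hz) t1
    omega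

end Main

/-- **`³D₄(q)`** -/
theorem false_D4 (B : Blk) {G : Type} [Group G] [Finite G] {p r e : ℕ} [hp : Fact p.Prime] [Fact r.Prime]
    {M : Ideal AlgInt} {b : Set (IrrCharacter G)} {D : Subgroup G} {A : Subgroup (MulAut G)} (H : Two p M b D)
    (hG : commutator G = ⊤) (P : Pure p G A D) (s : Has hpD4 r ((r : ℤ) ^ e • P4) (AdmF r) 1 G) (hr : p ≠ r) : False := by
  obtain ⟨k, _, _, _, X, ⟨s⟩⟩ := s
  obtain ⟨z, x, L⟩ := exists_pl P
  obtain ⟨ζ, hζ⟩ := exists_zeta (k := k) hr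
  obtain ⟨B₀, h0, f, hz, hx⟩ := exists_fm s hp.out (co := coD) (fun W h1 h2 h3 => by
      obtain ⟨m, hm, rfl⟩ := wm_D h1
      have h4 := cube_of P.odd h3 (by
        rw [← toM_m1, ← (ckD1 m hm).1]
        simp only [toM_mm, pow_succ, pow_zero, one_mul, mul_assoc])
      obtain ⟨a, ha, b, hb, e⟩ := (ckD1 m hm).2.1 (fun e => h2 (e ▸ toM_m1)) (toM_inj (by rw [toM_mm, toM_mm, h4, toM_m1]))
      exact ⟨_, _, rt_D.2 ⟨a, ha, rfl⟩, rt_D.2 ⟨b, hb, rfl⟩, by rw [← toV_vm, e, toV_add]⟩) (fun W h => by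
      obtain ⟨m, hm, rfl⟩ := wm_D h
      exact (ckD1 m hm).2.2) hr (pow_p P L.hz) (pow_p P L.hx) L.cm
  obtain ⟨m, hm, rfl⟩ := wm_D h0
  have hq : ¬ (p : ℤ) ∣ (r : ℤ) ^ e := fun h => hr ((Nat.prime_dvd_prime_iff_eq hp.out Fact.out).1
    (hp.out.dvd_of_dvd_pow (n := e) (by exact_mod_cast h)))
  obtain ⟨rfl, hk⟩ := three_of hm hq f P L hz hx
  obtain ⟨t, ht, h1, h2⟩ : ∃ t ∈ [(1 : ℤ), -1], 3 ∣ (r : ℤ) ^ e * t - 1 ∧ t * t = 1 := by
    by_cases h : 3 ∣ (r : ℤ) ^ e - 1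
    · exact ⟨1, by simp, by rwa [mul_one], rfl⟩
    · exact ⟨-1, by simp, by omega, rfl⟩
  exact false_3 B H hG f hr hζ P L hz hx hm ht h1
    (by rw [toM_sm4, smul_smul, mul_assoc, h2, mul_one, toM_mm, ← P4_eq, mul_smul_comm]) hk

/-- **the row `td4`** -/
theorem row_td4 (B : Blk) : RowFor fun p S _ => ∃ (K : Type) (_ : Field K) (_ : Fintype K) (q : ℕ), (p : K) ≠ 0 ∧
    IsPrimePow q ∧ Fintype.card K = q ^ 3 ∧ Nonempty (S ≃* Lie.twistedD4 K q) := by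
  rintro p _ - S _ _ _ - ⟨K, _, _, q, h1, hq, hK, ⟨i⟩⟩
  have := i.symm.isSimpleGroup
  refine Row.of_equiv i (row_of B (S2110.result hq hK) fun G _ _ j M b D A H hG P => ?_)
  obtain ⟨r, e, _, _, -, -, rfl, -⟩ := DL.Tw.setup hq three_ne_zero hK
  exact false_D4 B H hG P ((has_3D4 hK).congr j) fun e => h1 (e ▸ CharP.cast_eq_zero K r)

end Cfsg.Agent.TO.G2D
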