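import Cfsg.Agent.TO.G2D.Abs
import Cfsg.Agent.KZ.DatX.Three
import Cfsg.Agent.TO.SM.Lie
import Cfsg.Agent.S2100

/-!
# S4817, `G₂(q)` in cross characteristic (helper87)

`false_G2` : for `p ≠ 5` the count of the lines of a pure plane, for `p = 5` a canonical `SL₂` and [K2]; `row_g2` : the row.
-/

set_option autoImplicit false
set_option linter.unusedSectionVars false

namespace Cfsg.Agent.TO.G2D

open Cfsg Cfsg.Lie Cfsg.Agent.DL Matrix Cfsg.Agent.BHZ.Nil Cfsg.Agent.KZ.DatX Cfsg.Agent.TO.X Cfsg.Agent.Nodes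
  Cfsg.Agent.ChevalleyStructure.CoxeterGeomTypes

/-! ### rank two -/

section Two

variable {S : Type} [Group S] {p : ℕ} [hp : Fact p.Prime] {k : Type} [Field k] {Q : Subgroup S} {ζ : kˣ}
  {Rt : (Fin 2 → ℤ) → Prop} {co : (Fin 2 → ℤ) → Fin 2 → ℤ} {Wy Adm : Matrix (Fin 2) (Fin 2) ℤ → Prop}
  {N : Matrix (Fin 2) (Fin 2) ℤ} (f : Fm (Fin 2) k S p Rt co Wy Adm N)

theorem exists_inv {d : ℤ} (h : ¬ (p : ℤ) ∣ d) : ∃ m t : ℤ, m * d = 1 + p * t := by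
  obtain ⟨a, b, e⟩ := ((Nat.prime_iff_prime_int.1 hp.out).irreducible.coprime_iff_not_dvd).2 h
  exact ⟨b, -a, by linear_combination e⟩

theorem coch_zpow {R : Type} (v : R → ℤ) (a : kˣ) (n : ℤ) : coch v a ^ n = coch (n • v) a := by
  funext i
  rw [Pi.pow_apply, coch_apply, coch_apply, ← _root_.zpow_mul, Pi.smul_apply, smul_eq_mul, mul_comm]

/-- a plane in a torus of rank two -/
theorem Fm.span (hζ : IsPrimitiveRoot ζ p) {z x : S} (L : Pl Q z x) (hz : z ∈ f.T) (hx : x ∈ f.T) (h1 : z ^ p = 1)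
    (h2 : x ^ p = 1) {e : Fin 2 → kˣ} (he : e ^ p = 1) : ∃ i j : ℤ, f.c (z ^ i * x ^ j) = e := by
  obtain ⟨v, -, hv⟩ := exists_vec hζ (f.c_p hz h1)
  obtain ⟨u, -, hu⟩ := exists_vec hζ (f.c_p hx h2)
  obtain ⟨w, -, rfl⟩ := exists_vec hζ he
  have h3 : ∀ t : ℤ, ¬ ∀ i, (p : ℤ) ∣ t * v i - u i := fun t h => L.nm ⟨t, f.inj _ (zpow_mem hz t) _ hx (by
    rw [f.c_zpow hz, hv, hu, coch_zpow]
    exact (coch_eq hζ).2 h)⟩
  have h4 : ¬ (p : ℤ) ∣ v 0 * u 1 - v 1 * u 0 := fun ⟨d, hd⟩ => by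
    by_cases h5 : (p : ℤ) ∣ v 0
    · by_cases h6 : (p : ℤ) ∣ v 1
      · refine L.ne (f.eq_one hz ?_)
        rw [hv, ← map_one (coch (0 : Fin 2 → ℤ)), ← hζ.pow_eq_one, map_pow, coch_p hζ]
        funext i
        fin_cases i
        exacts [(hζ.zpow_eq_one_iff_dvd _).2 h5, (hζ.zpow_eq_one_iff_dvd _).2 h6]
      · obtain ⟨m, t, e⟩ := exists_inv h6
        exact h3 (m * u 1) (Fin.forall_fin_two.2 ⟨⟨m * d + t * u 0, by linear_combination m * hd + u 0 * e⟩,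
          ⟨t * u 1, by linear_combination u 1 * e⟩⟩)
    · obtain ⟨m, t, e⟩ := exists_inv h5
      exact h3 (m * u 0) (Fin.forall_fin_two.2 ⟨⟨t * u 0, by linear_combination u 0 * e⟩,
        ⟨t * u 1 - m * d, by linear_combination u 1 * e - m * hd⟩⟩)
  obtain ⟨m, t, e⟩ := exists_inv h4
  refine ⟨m * (w 0 * u 1 - w 1 * u 0), m * (v 0 * w 1 - v 1 * w 0), ?_⟩
  rw [f.mul _ (zpow_mem hz _) _ (zpow_mem hx _), f.c_zpow hz, f.c_zpow hx, hv, hu, coch_zpow, coch_zpow, ← coch_add]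
  refine (coch_eq hζ).2 (Fin.forall_fin_two.2 ⟨⟨t * w 0, ?_⟩, ⟨t * w 1, ?_⟩⟩) <;>
    simp only [Pi.add_apply, Pi.smul_apply, smul_eq_mul]
  · linear_combination w 0 * e
  · linear_combination w 1 * e

end Two

/-! ### the root system -/

/-- the roots -/
def rG : List (Fin 2 → ℤ) :=
  [![1, 0], ![0, 1], ![1, 1], ![2, 1], ![3, 1], ![3, 2], ![-1, 0], ![0, -1], ![-1, -1], ![-2, -1], ![-3, -1], ![-3, -2]]

/-- the Weyl group -/
def lG : List (Matrix (Fin 2) (Fin 2) ℤ) :=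
  [!![1, 0; 0, 1], !![-1, 0; 3, 1], !![1, 1; 0, -1], !![2, 1; -3, -1], !![-1, -1; 3, 2], !![-2, -1; 3, 2],
    !![2, 1; -3, -2], !![1, 1; -3, -2], !![-2, -1; 3, 1], !![-1, -1; 0, 1], !![1, 0; -3, -1], !![-1, 0; 0, -1]]

/-- the coroots -/
def coG (a : Fin 2 → ℤ) : Fin 2 → ℤ :=
  ![(2 * a 0 - 3 * a 1) / (a 0 ^ 2 - 3 * a 0 * a 1 + 3 * a 1 ^ 2), (6 * a 1 - 3 * a 0) / (a 0 ^ 2 - 3 * a 0 * a 1 + 3 * a 1 ^ 2)]

theorem rt_G {a : Fin 2 → ℤ} : Rt chevG2 2 a ↔ a ∈ rG :=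
  ⟨fun ⟨s, h, e⟩ => e ▸ (by decide +kernel : ∀ s < chevG2.nroots, RGDChev.vec chevG2 2 s ∈ rG) s h,
    (by decide +kernel : ∀ a ∈ rG, ∃ s < chevG2.nroots, RGDChev.vec chevG2 2 s = a) a⟩

theorem wm_G {B : Matrix (Fin 2) (Fin 2) ℤ} (h : WM chevG2 2 B) : B ∈ lG := by
  obtain ⟨L, rfl⟩ := h
  induction L with
  | nil => decide +kernel
  | cons i L ih => exact (by decide +kernel : ∀ i, ∀ B ∈ lG, sM chevG2 2 i * B ∈ lG) i _ ih

theorem ckG1 : ∀ B ∈ lG, B ^ 12 = 1 ∧ (B ≠ 1 → B * (B * B) = 1 → ∃ a ∈ rG, ∃ b ∈ rG, a ᵥ* B = a + b) ∧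
    (∀ i, B *ᵥ coG (B i) = cartanOf chevG2 2 i) ∧ (B ^ 5 = 1 → B = 1) ∧
    (5 ∣ B 0 1 → 5 ∣ B 1 0 → B = (1 : ℤ) • 1 ∨ B = (-1 : ℤ) • 1) ∧
    (B = 1 ∨ B = -1 ∨ ∃ a ∈ rG, ∃ v ∈ [![0, 1], ![1, -1]], B *ᵥ v - v = coG a) := by decide +kernel

theorem ckG2 : ∀ a ∈ rG, (∃ w ∈ rG, w ⬝ᵥ coG a = 1) ∧ (∃ i, ¬ 5 ∣ a ⬝ᵥ Pi.single i 1) ∧ (∃ b ∈ rG, ¬ (b = a ∨ b = -a)) ∧
    ∀ b ∈ rG, 5 ∣ b ⬝ᵥ ![a 1, -a 0] ↔ b = a ∨ b = -a := by decide +kernel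

theorem ckG3 : ∀ i, (∀ a ∈ rG.toFinset, a ᵥ* sM chevG2 2 i ∈ rG.toFinset) ∧ sM chevG2 2 i * sM chevG2 2 i = 1 := by
  decide +kernel

/-- the permutation of the roots by the special isogeny -/
def piG (a : Fin 2 → ℤ) : Fin 2 → ℤ := if 3 ∣ a 0 then ![a 1, a 0 / 3] else ![3 * a 1, a 0]

theorem pm_G {k : Type} [Field k] [CharP k 3] {A : Matrix (Fin 2) (Fin 2) ℤ} (h : AdmL 3 [1, GamG] A) :
    Pm k rG.toFinset A := by
  have : Fact (Nat.Prime 3) := ⟨Nat.prime_three⟩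
  obtain ⟨j, B, h1, rfl⟩ := h
  rw [← one_mul B, ← smul_mul_assoc]
  refine (pm_smul _ j).mul ?_
  rcases List.mem_pair.1 h1 with rfl | rfl
  · exact fun e => by rw [mon_one]
  · refine pm_of (r := 3) piG (fun a ha => ?_) (by decide +kernel)
    obtain ⟨h2, j, -, h3⟩ := (by decide +kernel : ∀ a ∈ rG.toFinset, piG a ∈ rG.toFinset ∧
      ∃ j < 2, a ᵥ* GamG = ((3 : ℕ) : ℤ) ^ j • piG a) a ha
    exact ⟨h2, j, h3⟩

/-! ### the three cases -/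

section Main

variable {G : Type} [Group G] [Finite G] {k : Type} [Field k] {D : Subgroup G} {A : Subgroup (MulAut G)} {ζ : kˣ}
  {Adm : Matrix (Fin 2) (Fin 2) ℤ → Prop} {N : Matrix (Fin 2) (Fin 2) ℤ} {z x : G}

/-- a character which is trivial on the plane -/
theorem dvd_of_kill {p : ℕ} [Fact p.Prime] (f : Fm (Fin 2) k G p (Rt chevG2 2) coG (WM chevG2 2) Adm N)
    (hζ : IsPrimitiveRoot ζ p) (P : Pure p G A D) (L : Pl D z x) (hz : z ∈ f.T) (hx : x ∈ f.T) {a : Fin 2 → ℤ}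
    (h : chr a (f.c z) = 1 ∧ chr a (f.c x) = 1) (v : Fin 2 → ℤ) : (p : ℤ) ∣ a ⬝ᵥ v := by
  obtain ⟨i, j, e⟩ := f.span hζ L hz hx (pow_p P L.hz) (pow_p P L.hx) (coch_p hζ v)
  rw [← chr_eq hζ, ← e, f.mul _ (zpow_mem hz _) _ (zpow_mem hx _), f.c_zpow hz, f.c_zpow hx, map_mul, map_zpow, map_zpow,
    h.1, h.2, _root_.one_zpow, _root_.one_zpow, one_mul]

theorem false_ne5 {p r : ℕ} [hp : Fact p.Prime] [Fact r.Prime] [CharP k r]
    (f : Fm (Fin 2) k G p (Rt chevG2 2) coG (WM chevG2 2) Adm N) (hA : ∀ B, Adm B → Pm k rG.toFinset B)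
    (hζ : IsPrimitiveRoot ζ p) (P : Pure p G A D) (L : Pl D z x) (hz : z ∈ f.T) (hx : x ∈ f.T) (h5 : p ≠ 5) : False := by
  have ha : ¬ (chr ![0, 1] (f.c z) = 1 ∧ chr ![0, 1] (f.c x) = 1) := fun h =>
    hp.out.not_dvd_one (Int.natCast_dvd_natCast.1 (dvd_of_kill f hζ P L hz hx h ![0, 1]))
  have hc : rG.toFinset.card = 12 := by decide +kernel
  by_cases h3 : p = 3
  · subst h3
    have h := f.cnt (fun _ => pm_wm (r := r) ckG3) hA P L hz hx ha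
      (U := {![0, 1], ![3, 1], ![3, 2], ![0, -1], ![-3, -1], ![-3, -2]}) (by decide +kernel) fun b hb g hg h1 => by
        obtain ⟨v, -, hv⟩ := exists_vec hζ (f.c_p hg h1)
        rw [hv, chr_eq hζ, chr_eq hζ]
        simp only [Finset.mem_insert, Finset.mem_singleton] at hb
        rcases hb with rfl | rfl | rfl | rfl | rfl | rfl <;>
          simp only [dotProduct, Fin.sum_univ_two, cons_val_zero, cons_val_one] <;> omega
    rw [hc, show Finset.card {![0, 1], ![3, 1], ![3, 2], ![0, -1], ![-3, -1], (![-3, -2] : Fin 2 → ℤ)} = 6 by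
      decide +kernel] at h
    omega
  · have h := f.cnt (fun _ => pm_wm (r := r) ckG3) hA P L hz hx ha (U := {![0, 1], -![0, 1]}) (by decide +kernel)
      fun b hb g _ _ => by
        rcases Finset.mem_insert.1 hb with rfl | hb
        · rfl
        · rw [Finset.mem_singleton.1 hb, chr_neg, inv_eq_one]
    rw [hc, show Finset.card {![0, 1], -(![0, 1] : Fin 2 → ℤ)} = 2 by decide +kernel] at h
    have h1 := hp.out.two_le
    have h2 := P.odd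
    have h4 : p ≠ 4 := fun e => absurd (e ▸ hp.out) (by decide)
    omega

theorem false_5 (B : Blk) [Fact (Nat.Prime 5)] {M : Ideal AlgInt} {b : Set (IrrCharacter G)} (H : Two 5 M b D)
    {B₀ : Matrix (Fin 2) (Fin 2) ℤ} (h0 : WM chevG2 2 B₀) {q : ℤ} (hq : ¬ ((5 : ℕ) : ℤ) ∣ q) (hq1 : 1 < q)
    (f : Fm (Fin 2) k G 5 (Rt chevG2 2) coG (WM chevG2 2) Adm (B₀ * q • 1))
    (hζ : IsPrimitiveRoot ζ 5) (P : Pure 5 G A D) (L : Pl D z x) (hz : z ∈ f.T) (hx : x ∈ f.T) : False := by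
  have sp : ∀ e : Fin 2 → kˣ, e ^ 5 = 1 → ∃ g ∈ D, g ∈ f.T ∧ f.c g = e := fun e he => by
    obtain ⟨i, j, h⟩ := f.span hζ L hz hx (pow_p P L.hz) (pow_p P L.hx) he
    exact ⟨_, mul_mem (zpow_mem L.hz i) (zpow_mem L.hx j), mul_mem (zpow_mem hz i) (zpow_mem hx j), h⟩
  have rt : ∀ a, Rt chevG2 2 a → ∃ g ∈ D, g ∈ f.T ∧ chr a (f.c g) ≠ 1 := fun a ha => by
    obtain ⟨i, hi⟩ := (ckG2 a (rt_G.1 ha)).2.1
    obtain ⟨g, h1, h2, h3⟩ := sp _ (coch_p hζ (Pi.single i 1))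
    exact ⟨g, h1, h2, fun h => hi ((chr_eq hζ).1 (h3 ▸ h))⟩
  have hT : D ≤ f.T := by
    by_contra h
    obtain ⟨y, h1, h2, h3⟩ := exists_nrm P.pg h
    obtain ⟨W, h4, -, -, h5, h6⟩ := f.nrm (D ⊓ f.T : Subgroup G) (fun _ h => h.2)
      (fun a ha => (rt a ha).imp fun g h => ⟨⟨h.1, h.2.1⟩, h.2.2⟩) y h3
    exact h2 (h5 ((ckG1 W (wm_G h4)).2.2.2.1 (h6 5 (pow_p P h1))))
  have mD : ∀ g ∈ f.T, f.c g ^ 5 = 1 → g ∈ D := fun g hg h => by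
    obtain ⟨g', h1, h2, h3⟩ := sp _ h
    exact f.inj _ h2 _ hg h3 ▸ h1
  have h25 := card_sq P L fun g hg => by
    obtain ⟨i, j, h⟩ := f.span hζ L hz hx (pow_p P L.hz) (pow_p P L.hx) (f.c_p (hT hg) (pow_p P hg))
    exact ⟨i, j, f.inj _ (hT hg) _ (mul_mem (zpow_mem hz i) (zpow_mem hx j)) h.symm⟩
  have dg : ∀ (W : Matrix (Fin 2) (Fin 2) ℤ) (c : ℤ), ¬ ((5 : ℕ) : ℤ) ∣ c → WM chevG2 2 W →
      (∀ g ∈ D, mon (W * c • 1) (f.c g) = f.c g) → ∃ ε : ℤ, (ε = 1 ∨ ε = -1) ∧ W = ε • 1 ∧ 5 ∣ ε * c - 1 := by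
    intro W c hc hW h
    have h1 : ∀ i j, ((5 : ℕ) : ℤ) ∣ W i j * c - (1 : Matrix (Fin 2) (Fin 2) ℤ) i j := fun i j => by
      obtain ⟨g, h2, -, h3⟩ := sp _ (coch_p hζ (Pi.single j 1))
      have h4 := h g h2
      rw [h3, mon_coch, coch_eq hζ, mul_smul_comm, mul_one, mulVec_single_one] at h4
      rw [mul_comm, Matrix.one_apply, ← Pi.single_apply]
      exact h4 i
    have h2 : ∀ i j, i ≠ j → (5 : ℤ) ∣ W i j := fun i j hij => by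
      have h3 := h1 i j
      rw [Matrix.one_apply_ne hij, sub_zero] at h3
      exact ((Nat.prime_iff_prime_int.1 (Fact.out : Nat.Prime 5)).dvd_or_dvd h3).resolve_right hc
    rcases (ckG1 W (wm_G hW)).2.2.2.2.1 (h2 0 1 (by decide)) (h2 1 0 (by decide)) with rfl | rfl
    · exact ⟨1, .inl rfl, rfl, by simpa using h1 0 0⟩
    · exact ⟨-1, .inr rfl, rfl, by simpa using h1 0 0⟩
  have nr := f.nrm D hT (fun a ha => (rt a ha).imp fun g h => ⟨h.1, h.2.2⟩)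
  have hC : Ce D = f.T := le_antisymm (fun y hy => by
    have h1 : ∀ g ∈ D, y * g * y⁻¹ = g := fun g hg => by
      rw [← Subgroup.mem_centralizer_iff.1 hy g hg, mul_inv_cancel_right]
    obtain ⟨W, h2, -, h3, h4, -⟩ := nr y fun g hg => by
      rwa [mul_assoc, Subgroup.mem_centralizer_iff.1 hy g hg, inv_mul_cancel_left]
    obtain ⟨ε, rfl | rfl, h5, h6⟩ := dg W 1 (by decide) h2 fun g hg => by
      rw [one_smul, mul_one, ← (h3 g (hT hg)).2, h1 g hg]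
    · exact h4 (h5.trans (one_smul _ _))
    · exact absurd h6 (by decide)) (f.T_le hT)
  obtain ⟨θ, h⟩ := B.can0 G 5 M b D H.hM H.hb H.hD (hC ▸ hT)
  obtain ⟨ε, hε, rfl, -⟩ := dg B₀ q hq h0 fun g hg => f.fix g (hT hg)
  have hN : ∀ e : Fin 2 → kˣ, mon ((ε • 1 : Matrix (Fin 2) (Fin 2) ℤ) * q • 1) e = e ^ (ε * q) := fun e => by
    rw [smul_mul_smul_comm, mul_one, mon_zsmul, mon_one]
  have : NeZero (ε * q - 1).natAbs := ⟨by rcases hε with rfl | rfl <;> omega⟩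
  have mu : ∀ t : kˣ, t ∈ rootsOfUnity (ε * q - 1).natAbs k ↔ t ^ (ε * q) = t := fun t => by
    rw [mem_rootsOfUnity, ← orderOf_dvd_iff_pow_eq_one, ← Int.natCast_dvd, orderOf_dvd_iff_zpow_eq_one,
      _root_.zpow_sub, zpow_one, mul_inv_eq_one]
  obtain ⟨s, hs⟩ := IsCyclic.exists_generator (α := rootsOfUnity (ε * q - 1).natAbs k)
  choose el e1 e2 using fun v : Fin 2 → ℤ => f.ex (coch v s.1) (by rw [hN, ← map_zpow, (mu _).1 s.2])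
  have c1 : ∀ v, el v ∈ Ce D := fun v => hC ▸ e1 v
  have c2 : ∀ v, el v ∈ Ce (Ce D) := fun v => hC ▸ f.T_le le_rfl (e1 v)
  obtain ⟨t, ht, hn⟩ := SetLike.not_le_iff_exists.1 (B.can2 G 5 M b D θ H h).2
  obtain ⟨W, h1, -, h2, h3, -⟩ := nr t fun g hg => (Subgroup.mem_normalizer_iff''.1 (In_le_norm ht) g).1 hg
  obtain ⟨a, ha, hk⟩ : ∃ a ∈ rG, el (coG a) ∈ h.kr := by
    rcases (ckG1 W (wm_G h1)).2.2.2.2.2 with rfl | rfl | ⟨a, ha, v, -, hv⟩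
    · exact absurd (hC ▸ h3 rfl) hn
    · have h4 : ∀ v, el v * el v ∈ h.kr := fun v => h.sq_mem ht (c1 v) (c2 v) (f.inj _ (h2 _ (e1 v)).1 _ (inv_mem (e1 v))
        (by rw [(h2 _ (e1 v)).2, f.c_inv (e1 v), mon_neg, mon_one]))
      rcases h.kr_of_three (c1 (coG ![1, 0])) (c2 _) (c1 (coG ![0, 1])) (c2 _) (h4 _) (h4 _) with h5 | h5 | h5
      · exact ⟨_, by decide +kernel, h5⟩
      · exact ⟨_, by decide +kernel, h5⟩
      · refine ⟨![3, 1], by decide +kernel, f.inj _ (mul_mem (e1 _) (e1 _)) _ (e1 _) ?_ ▸ h5⟩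
        rw [f.mul _ (e1 _) _ (e1 _), e2, e2, e2, ← coch_add, show coG ![1, 0] + coG ![0, 1] = coG ![3, 1] by decide +kernel]
    · refine ⟨a, ha, f.inj _ (mul_mem (h2 _ (e1 v)).1 (inv_mem (e1 v))) _ (e1 _) ?_ ▸ h.la_div ht (c1 v) (c2 v)⟩
      rw [f.mul _ (h2 _ (e1 v)).1 _ (inv_mem (e1 v)), (h2 _ (e1 v)).2, f.c_inv (e1 v), e2, e2, mon_coch, ← hv, ← coch_neg,
        ← coch_add, ← sub_eq_add_neg]
  obtain ⟨⟨w, -, hw⟩, -, ⟨b', hb, hb'⟩, h4⟩ := ckG2 a ha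
  have pr : ∀ t : kˣ, chr w (coch (coG a) t) = t := fun t => by
    rw [chr_coch]
    exact (congrArg (t ^ ·) hw).trans (zpow_one t)
  obtain ⟨u, hu, hu', h5⟩ := sp _ (coch_p hζ ![a 1, -a 0])
  have h6 : ∀ b, Rt chevG2 2 b → (chr b (f.c u) = 1 ↔ b = a ∨ b = -a) := fun b hb => by
    rw [h5, chr_eq hζ]
    exact h4 b (rt_G.1 hb)
  obtain ⟨K, k1, k2, y, k3, k4⟩ := f.sl2 u hu' (pow_p P hu) a (rt_G.2 ha) h6
  have h7 := B.k2 G 5 M b D θ H h (.inr rfl) h25 u hu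
    (fun e => hb' ((h6 b' (rt_G.2 hb)).1 (by rw [e, f.c_one, map_one]))) K
    ⟨fun α hα => k1 α hα.2, fun g hg hg' => by
      rw [hC] at hg'
      obtain ⟨t, e⟩ := k2 g hg hg'
      obtain ⟨n, hn⟩ := hs ⟨t, (mu t).2 (by
        have h7 := congrArg (chr w) (f.fix g hg')
        rwa [hN, map_zpow, e, pr] at h7)⟩
      refine (h.mem_kr.1 (f.inj _ (zpow_mem (e1 (coG a)) n) _ hg' ?_ ▸ zpow_mem hk n)).2
      rw [f.c_zpow (e1 _), e2, ← map_zpow, e]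
      exact congrArg (fun t : rootsOfUnity _ k => coch (coG a) t.1) hn⟩ y k3
    (Subgroup.mem_normalizer_fintype fun g hg => mD _ (k4 g (hT hg)).1 (by
      rw [(k4 g (hT hg)).2, ← map_pow, f.c_p (hT hg) (pow_p P hg), map_one]))
    (Subgroup.mem_centralizer_singleton_iff.2 (mul_inv_eq_iff_eq_mul.1 (f.inj _ (k4 u hu').1 _ hu' (by
      rw [(k4 u hu').2, mon_rf, (h6 a (rt_G.2 ha)).2 (.inl rfl), map_one, inv_one, mul_one]))))
  obtain ⟨g, h8, h9, h10⟩ := rt a (rt_G.2 ha)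
  have h11 := (k4 g h9).2
  rw [← Subgroup.mem_centralizer_iff.1 h7 g h8, mul_inv_cancel_right, mon_rf, left_eq_mul, inv_eq_one] at h11
  exact h10 (by rw [← pr (chr a (f.c g)), h11, map_one])

/-- **`G₂(q)`** -/
theorem false_G2 (B : Blk) {p r e : ℕ} [hp : Fact p.Prime] [Fact r.Prime] {M : Ideal AlgInt} {b : Set (IrrCharacter G)}
    (H : Two p M b D) (P : Pure p G A D) (s : Has hpG2 r ((r : ℤ) ^ e • 1) Adm 1 G)
    (hA : ∀ (k : Type) [Field k] [CharP k r] B, Adm B → Pm k rG.toFinset B) (hr : p ≠ r) (he : 0 < e) : False := by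
  obtain ⟨k, _, _, _, X, ⟨s⟩⟩ := s
  obtain ⟨z, x, L⟩ := exists_pl P
  obtain ⟨ζ, hζ⟩ := exists_zeta (k := k) hr
  obtain ⟨B₀, h0, f, hz, hx⟩ := exists_fm s hp.out (co := coG) (fun W h1 h2 h3 => by
      obtain ⟨a, ha, b, hb, e⟩ := (ckG1 W (wm_G h1)).2.1 h2 (cube_of P.odd h3 (ckG1 W (wm_G h1)).1)
      exact ⟨a, b, rt_G.2 ha, rt_G.2 hb, e⟩) (fun W h => (ckG1 W (wm_G h)).2.2.1) hr (pow_p P L.hz) (pow_p P L.hx) L.cm
  by_cases h5 : p = 5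
  · subst h5
    refine false_5 B H h0 (fun h => hr ((Nat.prime_dvd_prime_iff_eq hp.out Fact.out).1 (hp.out.dvd_of_dvd_pow (n := e) ?_)))
      (one_lt_pow₀ (Int.ofNat_lt.2 (Fact.out : r.Prime).one_lt) he.ne') f hζ P L hz hx
    exact_mod_cast h
  · exact false_ne5 f (hA k) hζ P L hz hx h5

end Main

/-- **the row `g2`** -/
theorem row_g2 (B : Blk) : RowFor fun p S _ => ∃ (F : Type) (_ : Field F) (_ : Fintype F), (p : F) ≠ 0 ∧
    3 ≤ Fintype.card F ∧ Nonempty (S ≃* Lie.chevG2.group F) := by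
  rintro p _ - S _ _ _ - ⟨F, _, _, h1, h2, ⟨i⟩⟩
  have := i.symm.isSimpleGroup
  refine Row.of_equiv i ?_
  by_cases h3 : Fintype.card F = 3
  · exact SM.row_G23 B h3
  by_cases h4 : Fintype.card F = 4
  · exact SM.row_G24 B h4
  obtain ⟨r, hr⟩ := CharP.exists F
  obtain ⟨e, h5, h6⟩ := FiniteField.card F r
  have : Fact r.Prime := ⟨h5⟩
  have h7 : p ≠ r := fun e => h1 (e ▸ CharP.cast_eq_zero F r)
  refine row_of B (S2100.result (by omega)) fun G _ _ j M b D A H _ P => ?_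
  by_cases h8 : r = 3
  · subst h8
    exact false_G2 B H P ((has_G2three h6).congr j) (fun _ _ _ _ => pm_G) h7 e.2
  · exact false_G2 B H P ((has_G2 h6 h8 h2).congr j) (fun _ _ _ _ ⟨j, h⟩ => h ▸ pm_smul _ j) h7 e.2

end Cfsg.Agent.TO.G2D
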