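import Cfsg.Agent.TO.G2D.Fm
import Cfsg.Agent.TO.Kr
import Cfsg.Agent.TO.RedA
import Cfsg.Agent.H95.StemCover

/-!
# S4817, `G₂(q)` and `³D₄(q)`: the abstract part (helper87)

* `Pl` : a plane in the defect group; `Fm.cnt` : the count of the lines of a pure plane;
* `Fm.exists_nrm`, `card_sq` : the part of the defect group in the torus; `row_of` : trivial multiplier.
-/

set_option autoImplicit false
set_option linter.unusedSectionVars false

namespace Cfsg.Agent.TO.G2D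

open Cfsg Cfsg.Agent.DL Matrix Cfsg.Agent.BHZ.Nil

variable {S : Type} [Group S] {p : ℕ} [hp : Fact p.Prime] {A : Subgroup (MulAut S)} {Q : Subgroup S}

theorem pow_p (P : Pure p S A Q) {u : S} (hu : u ∈ Q) : u ^ p = 1 :=
  P.expo u (self_le_KK Q hu) (pElt_of_mem P.pg hu)

/-- two commuting independent elements -/
structure Pl (Q : Subgroup S) (z x : S) : Prop where
  hz : z ∈ Q
  hx : x ∈ Q
  ne : z ≠ 1
  nm : x ∉ Subgroup.zpowers z
  cm : x * z = z * x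

theorem exists_pl [Finite S] (P : Pure p S A Q) : ∃ z x, Pl Q z x := by
  have hn : Nontrivial ↥Q := by
    by_contra h
    have := not_nontrivial_iff_subsingleton.1 h
    exact P.nc inferInstance
  have := P.pg.center_nontrivial
  obtain ⟨z, hz⟩ := exists_ne (1 : ↥(Subgroup.center ↥Q))
  by_contra h
  refine P.nc ⟨z.1, fun x => ?_⟩
  by_contra hx
  refine h ⟨z.1.1, x.1, z.1.2, x.2, fun e => hz (Subtype.ext (Subtype.ext e)), fun ⟨n, hn⟩ => hx ⟨n, Subtype.ext hn⟩, ?_⟩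
  exact congrArg Subtype.val (Subgroup.mem_center_iff.1 z.2 x)

theorem card_sq [Finite S] (P : Pure p S A Q) {z x : S} (L : Pl Q z x)
    (h : ∀ g ∈ Q, ∃ i j : ℤ, g = z ^ i * x ^ j) : Nat.card ↥Q = p ^ 2 := by
  obtain ⟨n, hn⟩ := IsPGroup.iff_card.1 P.pg
  have h0 : ∀ y ∈ Q, ∀ i : ℤ, ∃ j < p, y ^ i = y ^ j := fun y hy i => by
    have h1 : (p : ℤ) ≠ 0 := Int.natCast_ne_zero.2 hp.out.ne_zero
    obtain ⟨j, hj⟩ := Int.eq_ofNat_of_zero_le (Int.emod_nonneg i h1)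
    have h2 := Int.emod_lt_abs i h1
    exact ⟨j, by rwa [hj, Nat.abs_cast, Int.ofNat_lt] at h2, by rw [zpow_eq_zpow_emod' i (pow_p P hy), hj, zpow_natCast]⟩
  have h1 : Nat.card ↥Q ≤ Nat.card (Fin p × Fin p) := Nat.card_le_card_of_surjective
    (fun i => ⟨z ^ (i.1 : ℕ) * x ^ (i.2 : ℕ), mul_mem (pow_mem L.hz _) (pow_mem L.hx _)⟩) fun g => by
      obtain ⟨i, j, e⟩ := h g g.2
      obtain ⟨i', hi, e1⟩ := h0 z L.hz i
      obtain ⟨j', hj, e2⟩ := h0 x L.hx j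
      exact ⟨(⟨i', hi⟩, ⟨j', hj⟩), Subtype.ext (by rw [e, e1, e2])⟩
  rw [Nat.card_prod, Nat.card_fin, hn, ← pow_two] at h1
  have h2 := (Nat.pow_le_pow_iff_right hp.out.one_lt).1 h1
  rcases n with _ | _ | _ | n
  · have := (Nat.card_eq_one_iff_unique.1 hn).1
    exact absurd isCyclic_of_subsingleton P.nc
  · exact absurd (isCyclic_of_prime_card (hn.trans (pow_one p))) P.nc
  · exact hn
  · omega

/-- a proper subgroup of a `p`-group is properly contained in its normaliser -/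
theorem exists_nrm [Finite S] (hQ : IsPGroup p Q) {T : Subgroup S} (h : ¬ Q ≤ T) :
    ∃ y ∈ Q, y ∉ T ∧ ∀ z ∈ (Q ⊓ T : Subgroup S), y⁻¹ * z * y ∈ (Q ⊓ T : Subgroup S) := by
  have := hQ.isNilpotent
  obtain ⟨y, h1, h2⟩ := SetLike.exists_of_lt (Group.normalizerCondition_of_isNilpotent (G := ↥Q) (T.subgroupOf Q)
    (lt_top_iff_ne_top.2 fun e => h (Subgroup.subgroupOf_eq_top.1 e)))
  exact ⟨y, y.2, h2, fun z hz => ⟨Q.mul_mem (Q.mul_mem (Q.inv_mem y.2) hz.1) y.2,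
    (Subgroup.mem_normalizer_iff''.1 h1 ⟨z, hz.1⟩).1 hz.2⟩⟩

/-- trivial multiplier -/
theorem row_of (B : Blk) {X : Type} [Group X] [IsSimpleGroup X] (hm : HasCyclicSchurMultiplier X 1)
    (h : ∀ (G : Type) [Group G] [Finite G] (_ : G ≃* X) (M : Ideal AlgInt) (b : Set (IrrCharacter G)) (D : Subgroup G)
      (A : Subgroup (MulAut G)), Two p M b D → commutator G = ⊤ → Pure p G A D → False) : Row p X :=
  fun G _ _ σ M b D H => by
  have hi := H95.StemCover.injective_of_trivial hm H.perf σ H.surj H.ker.le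
  have h1 := B.pure G p M b D G (MonoidHom.id G)
    { toTwo := H.toTwo, perf := H.perf, surj := Function.surjective_id
      ker := by rw [← H.ker, (MonoidHom.ker_eq_bot_iff σ).2 hi, MonoidHom.ker_id]
      zp := H.zp, cyc := H.cyc, faith := H.faith }
  rw [Subgroup.map_id] at h1
  exact h G (MulEquiv.ofBijective σ ⟨hi, H.surj⟩) M b D _ H.toTwo H.perf h1

variable {R : Type} [Fintype R] [DecidableEq R] {k : Type} [Field k]

/-! ### coordinates -/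

theorem exists_zeta {r : ℕ} [Fact r.Prime] [CharP k r] [IsAlgClosed k] (hr : p ≠ r) : ∃ ζ : kˣ, IsPrimitiveRoot ζ p := by
  have : NeZero (p : k) := ⟨fun h0 => hr ((Nat.prime_dvd_prime_iff_eq Fact.out hp.out).1
    ((CharP.cast_eq_zero_iff k r p).1 h0)).symm⟩
  obtain ⟨ζ, hζ⟩ := HasEnoughRootsOfUnity.exists_primitiveRoot k p
  exact ⟨_, hζ.isUnit_unit (NeZero.ne _)⟩

section

variable {ζ : kˣ} (hζ : IsPrimitiveRoot ζ p)
include hζ

theorem exists_vec {e : R → kˣ} (he : e ^ p = 1) : ∃ v : R → ℤ, (∀ i, 0 ≤ v i ∧ v i < p) ∧ e = coch v ζ := by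
  choose v h1 h2 using fun i => hζ.eq_pow_of_mem_rootsOfUnity (ξ := e i) (congrFun he i)
  exact ⟨fun i => v i, fun i => ⟨Int.natCast_nonneg _, Int.ofNat_lt.2 (h1 i)⟩, funext fun i => by
    rw [coch_apply, zpow_natCast, h2]⟩

theorem coch_eq {u v : R → ℤ} : coch u ζ = coch v ζ ↔ ∀ i, (p : ℤ) ∣ u i - v i := by
  rw [funext_iff]
  refine forall_congr' fun i => ?_
  rw [coch_apply, coch_apply, ← mul_inv_eq_one, ← _root_.zpow_sub, hζ.zpow_eq_one_iff_dvd]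

theorem chr_eq {a v : R → ℤ} : chr a (coch v ζ) = 1 ↔ (p : ℤ) ∣ a ⬝ᵥ v := by
  rw [chr_coch, hζ.zpow_eq_one_iff_dvd]
  rfl

theorem coch_p (v : R → ℤ) : coch v ζ ^ p = 1 := by rw [← map_pow, hζ.pow_eq_one, map_one]

end

theorem eq_one_of_cop {a : kˣ} (ha : a ^ p = 1) {q : ℤ} (hq : ¬ (p : ℤ) ∣ q) (h : a ^ q = 1) : a = 1 := by
  by_contra h1
  exact hq (orderOf_eq_prime ha h1 ▸ orderOf_dvd_iff_zpow_eq_one.2 h)

theorem eq_one_of_chr {e : R → kˣ} (h : ∀ i, chr (Pi.single i 1) e = 1) : e = 1 :=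
  funext fun i => (chr_single i e).symm.trans (h i)

theorem mon_rf (co : (R → ℤ) → R → ℤ) (a : R → ℤ) (e : R → kˣ) : mon (rf co a) e = e * (coch (co a) (chr a e))⁻¹ := by
  rw [rf, mon_sub, mon_one]
  congr 2
  funext i
  rw [mon_apply, coch_apply, ← chr_zsmul]
  rfl

theorem cube_of {Mo : Type} [Monoid Mo] {B : Mo} (h2 : p ≠ 2) (h : B ^ p = 1) (h' : B ^ 12 = 1) : B * (B * B) = 1 := by
  rw [← pow_two, ← pow_succ', ← orderOf_dvd_iff_pow_eq_one]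
  rcases (Nat.dvd_prime hp.out).1 (orderOf_dvd_of_pow_eq_one h) with h1 | h1 <;> rw [h1]
  · exact one_dvd _
  · rcases (Nat.Prime.dvd_mul hp.out (m := 2 ^ 2) (n := 3)).1 (h1 ▸ orderOf_dvd_of_pow_eq_one h') with h3 | h3
    · exact absurd ((Nat.prime_dvd_prime_iff_eq hp.out Nat.prime_two).1 (hp.out.dvd_of_dvd_pow h3)) h2
    · exact h3

/-! ### the number of roots -/

open Classical in
/-- the roots which are trivial on `e` -/
noncomputable def Kl (Φ : Finset (R → ℤ)) (e : R → kˣ) : Finset (R → ℤ) := Φ.filter fun a => chr a e = 1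

theorem mem_Kl {Φ : Finset (R → ℤ)} {e : R → kˣ} {a : R → ℤ} : a ∈ Kl Φ e ↔ a ∈ Φ ∧ chr a e = 1 := by
  classical
  rw [Kl, Finset.mem_filter]

variable (k) in
/-- the matrix does not increase the number of roots -/
def Pm (Φ : Finset (R → ℤ)) (B : Matrix R R ℤ) : Prop := ∀ e : R → kˣ, (Kl Φ (mon B e)).card ≤ (Kl Φ e).card

theorem Pm.mul {Φ : Finset (R → ℤ)} {B B' : Matrix R R ℤ} (h : Pm k Φ B) (h' : Pm k Φ B') : Pm k Φ (B * B') :=
  fun e => by rw [mon_mul]; exact (h _).trans (h' e)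

theorem pm_of {r : ℕ} [Fact r.Prime] [CharP k r] {Φ : Finset (R → ℤ)} {B : Matrix R R ℤ} (π : (R → ℤ) → R → ℤ)
    (h1 : ∀ a ∈ Φ, π a ∈ Φ ∧ ∃ j : ℕ, a ᵥ* B = (r : ℤ) ^ j • π a) (h2 : ∀ a ∈ Φ, ∀ b ∈ Φ, π a = π b → a = b) :
    Pm k Φ B := fun e => by
  refine Finset.card_le_card_of_injOn π (fun a ha => ?_) fun a ha b hb => h2 a (mem_Kl.1 ha).1 b (mem_Kl.1 hb).1
  obtain ⟨h3, h4⟩ := mem_Kl.1 ha
  obtain ⟨h5, j, h6⟩ := h1 a h3
  rw [chr_mon, h6, chr_zsmul, ← Nat.cast_pow, zpow_natCast, ← Units.val_eq_one, Units.val_pow_eq_pow_val,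
    ← sub_eq_zero, ← one_pow (r ^ j), ← sub_pow_char_pow, pow_eq_zero_iff (pow_ne_zero j (Fact.out : r.Prime).ne_zero),
    sub_eq_zero, Units.val_eq_one] at h4
  exact mem_Kl.2 ⟨h5, h4⟩

theorem pm_smul {r : ℕ} [Fact r.Prime] [CharP k r] (Φ : Finset (R → ℤ)) (j : ℕ) : Pm k Φ ((r : ℤ) ^ j • 1) :=
  pm_of (r := r) id (fun a ha => ⟨ha, j, by rw [vecMul_smul, vecMul_one]; rfl⟩) fun _ _ _ _ h => h

theorem pm_wm {r : ℕ} [Fact r.Prime] [CharP k r] {l : ℕ} {C : Lie.ChevalleyDatum} {Φ : Finset (Fin l → ℤ)}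
    (h : ∀ i, (∀ a ∈ Φ, a ᵥ* KZ.DatX.sM C l i ∈ Φ) ∧ KZ.DatX.sM C l i * KZ.DatX.sM C l i = 1)
    {B : Matrix (Fin l) (Fin l) ℤ} (hB : X.WM C l B) : Pm k Φ B := by
  obtain ⟨L, rfl⟩ := hB
  induction L with
  | nil => exact fun e => by rw [List.map_nil, List.prod_nil, mon_one]
  | cons i L ih =>
    rw [List.map_cons, List.prod_cons]
    refine Pm.mul (pm_of (r := r) (· ᵥ* KZ.DatX.sM C l i) (fun a ha => ⟨(h i).1 a ha, 0, by simp⟩) fun a _ b _ e => ?_) ih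
    have h1 := congrArg (· ᵥ* KZ.DatX.sM C l i) e
    simpa only [vecMul_vecMul, (h i).2, vecMul_one] using h1

namespace Fm

variable {Rt : (R → ℤ) → Prop} {co : (R → ℤ) → R → ℤ} {Wy Adm : Matrix R R ℤ → Prop} {N : Matrix R R ℤ}
  (f : Fm R k S p Rt co Wy Adm N)

omit hp

theorem c_one : f.c 1 = 1 := by
  have h := f.mul 1 (one_mem _) 1 (one_mem _)
  rwa [mul_one, left_eq_mul] at h

theorem c_inv {g : S} (hg : g ∈ f.T) : f.c g⁻¹ = (f.c g)⁻¹ :=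
  eq_inv_of_mul_eq_one_left (by rw [← f.mul _ (inv_mem hg) _ hg, inv_mul_cancel, c_one])

theorem c_pow {g : S} (hg : g ∈ f.T) (n : ℕ) : f.c (g ^ n) = f.c g ^ n := by
  induction n with
  | zero => rw [pow_zero, pow_zero, c_one]
  | succ n ih => rw [pow_succ, pow_succ, f.mul _ (pow_mem hg n) _ hg, ih]

theorem c_zpow {g : S} (hg : g ∈ f.T) (n : ℤ) : f.c (g ^ n) = f.c g ^ n := by
  rcases n with n | n
  · rw [Int.ofNat_eq_natCast, zpow_natCast, zpow_natCast, f.c_pow hg]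
  · rw [zpow_negSucc, zpow_negSucc, f.c_inv (pow_mem hg _), f.c_pow hg]

theorem eq_one {g : S} (hg : g ∈ f.T) (h : f.c g = 1) : g = 1 := f.inj g hg 1 (one_mem _) (h.trans f.c_one.symm)

theorem comm {g h : S} (hg : g ∈ f.T) (hh : h ∈ f.T) : g * h = h * g :=
  f.inj _ (mul_mem hg hh) _ (mul_mem hh hg) (by rw [f.mul _ hg _ hh, f.mul _ hh _ hg, mul_comm])

theorem c_p {g : S} (hg : g ∈ f.T) {n : ℕ} (h : g ^ n = 1) : f.c g ^ n = 1 := by rw [← f.c_pow hg, h, c_one]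

theorem T_le {D : Subgroup S} (h : D ≤ f.T) : f.T ≤ Ce D := fun _ hg =>
  Subgroup.mem_centralizer_iff.2 fun _ hd => f.comm (h hd) hg

include hp

/-- **The count of the lines of a pure plane.** -/
theorem cnt {Φ : Finset (R → ℤ)} (hW : ∀ B, Wy B → Pm k Φ B) (hA : ∀ B, Adm B → Pm k Φ B) (P : Pure p S A Q) {z x : S}
    (L : Pl Q z x) (hz : z ∈ f.T) (hx : x ∈ f.T) {a : R → ℤ} (ha : ¬ (chr a (f.c z) = 1 ∧ chr a (f.c x) = 1))
    {U : Finset (R → ℤ)} (hU : U ⊆ Φ) (h : ∀ b ∈ U, ∀ g ∈ f.T, g ^ p = 1 → (chr b (f.c g) = 1 ↔ chr a (f.c g) = 1)) :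
    (p + 1) * U.card + (Kl Φ (f.c z) ∩ Kl Φ (f.c x)).card ≤ Φ.card := by
  let u : Option (Fin p) → S := fun o => o.elim z fun j => z ^ (j : ℕ) * x
  have uQ : ∀ o, u o ∈ Q := by
    rintro (_ | j)
    exacts [L.hz, mul_mem (pow_mem L.hz _) L.hx]
  have uT : ∀ o, u o ∈ f.T := by
    rintro (_ | j)
    exacts [hz, mul_mem (pow_mem hz _) hx]
  have u1 : ∀ o, u o ≠ 1 := by
    rintro (_ | j)
    exacts [L.ne, fun e => L.nm (eq_inv_of_mul_eq_one_right e ▸ inv_mem (pow_mem (Subgroup.mem_zpowers z) _))]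
  have uc : ∀ (b : R → ℤ) (j : Fin p), chr b (f.c (u (some j))) = chr b (f.c z) ^ (j : ℕ) * chr b (f.c x) := fun b j => by
    rw [← map_pow, ← map_mul, ← f.c_pow hz, ← f.mul _ (pow_mem hz _) _ hx]
    rfl
  have hp1 : ∀ (b : R → ℤ) {g : S}, g ∈ Q → g ∈ f.T → chr b (f.c g) ^ p = 1 := fun b g h1 h2 => by
    rw [← map_pow, f.c_p h2 (pow_p P h1), map_one]
  have prim : ∀ b : R → ℤ, chr b (f.c z) ≠ 1 → IsPrimitiveRoot (chr b (f.c z)) p := fun b hb => by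
    have h1 := IsPrimitiveRoot.orderOf (chr b (f.c z))
    rwa [orderOf_eq_prime (hp1 b L.hz hz) hb] at h1
  have hn : ∀ o o', (Kl Φ (f.c (u o'))).card ≤ (Kl Φ (f.c (u o))).card := fun o o' => by
    obtain ⟨σ, -, e⟩ := P.conj _ (self_le_KK Q (uQ o)) _ (self_le_KK Q (uQ o')) (pElt_of_mem P.pg (uQ o))
      (pElt_of_mem P.pg (uQ o')) (u1 o) (u1 o')
    obtain ⟨B, A, h1, h2, h3⟩ := f.aut σ _ _ (f.c (u o')) (f.cj _ (uT o)) (by rw [e]; exact f.cj _ (uT o'))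
    rw [h3]
    exact (hW B h1).mul (hA A h2) _
  set Ψ := Kl Φ (f.c z) ∩ Kl Φ (f.c x) with hΨ
  have mΨ : ∀ b, b ∈ Ψ ↔ b ∈ Φ ∧ chr b (f.c z) = 1 ∧ chr b (f.c x) = 1 := fun b => by
    rw [hΨ, Finset.mem_inter, mem_Kl, mem_Kl, ← and_and_left]
  have sub : ∀ o, Ψ ⊆ Kl Φ (f.c (u o)) := by
    rintro (_ | j) b hb
    · exact (Finset.mem_inter.1 hb).1
    · obtain ⟨h1, h2, h3⟩ := (mΨ b).1 hb
      exact mem_Kl.2 ⟨h1, by rw [uc, h2, h3, one_pow, one_mul]⟩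
  obtain ⟨o₀, h0⟩ : ∃ o, chr a (f.c (u o)) = 1 := by
    by_cases h1 : chr a (f.c z) = 1
    · exact ⟨none, h1⟩
    · obtain ⟨j, h2, h3⟩ := (prim a h1).eq_pow_of_mem_rootsOfUnity (ξ := (chr a (f.c x))⁻¹)
        (by rw [mem_rootsOfUnity, inv_pow, hp1 a L.hx hx, inv_one])
      exact ⟨some ⟨j, h2⟩, by rw [uc, h3, inv_mul_cancel]⟩
  have h1 : U.card ≤ (Kl Φ (f.c (u o₀)) \ Ψ).card := Finset.card_le_card fun b hb => Finset.mem_sdiff.2
    ⟨mem_Kl.2 ⟨hU hb, (h b hb _ (uT _) (pow_p P (uQ _))).2 h0⟩, fun h2 => ha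
      ⟨(h b hb z hz (pow_p P L.hz)).1 ((mΨ b).1 h2).2.1, (h b hb x hx (pow_p P L.hx)).1 ((mΨ b).1 h2).2.2⟩⟩
  have h2 : ∀ o, U.card ≤ (Kl Φ (f.c (u o)) \ Ψ).card := fun o => by
    rw [Finset.card_sdiff_of_subset (sub _)] at h1 ⊢
    exact h1.trans (Nat.sub_le_sub_right (hn o o₀) _)
  have h3 : ∀ (j : Fin p) b, b ∈ Kl Φ (f.c (u (some j))) → chr b (f.c z) = 1 → b ∈ Ψ := fun j b h4 h5 => by
    obtain ⟨h6, h7⟩ := mem_Kl.1 h4
    rw [uc, h5, one_pow, one_mul] at h7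
    exact (mΨ b).2 ⟨h6, h5, h7⟩
  have h4 := Finset.card_biUnion (s := Finset.univ) (t := fun o => Kl Φ (f.c (u o)) \ Ψ) (by
    rintro o - o' - hne
    refine Finset.disjoint_left.2 fun b hb hb' => (Finset.mem_sdiff.1 hb).2 ?_
    replace hb := (Finset.mem_sdiff.1 hb).1
    replace hb' := (Finset.mem_sdiff.1 hb').1
    rcases o with _ | i <;> rcases o' with _ | j
    · exact absurd rfl hne
    · exact h3 j b hb' (mem_Kl.1 hb).2
    · exact h3 i b hb (mem_Kl.1 hb').2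
    · refine h3 i b hb (by_contra fun h5 => hne (congrArg some (Fin.ext ((prim b h5).pow_inj i.2 j.2 ?_))))
      exact mul_right_cancel (((uc b i).symm.trans (mem_Kl.1 hb).2).trans ((uc b j).symm.trans (mem_Kl.1 hb').2).symm))
  have h5 : (Finset.univ.biUnion fun o => Kl Φ (f.c (u o)) \ Ψ).card ≤ (Φ \ Ψ).card := Finset.card_le_card fun b hb => by
    obtain ⟨o, -, h6⟩ := Finset.mem_biUnion.1 hb
    exact Finset.mem_sdiff.2 ⟨(mem_Kl.1 (Finset.mem_sdiff.1 h6).1).1, (Finset.mem_sdiff.1 h6).2⟩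
  have h6 := Finset.card_nsmul_le_sum Finset.univ _ _ fun o _ => h2 o
  rw [Finset.card_univ, Fintype.card_option, Fintype.card_fin, smul_eq_mul, ← h4] at h6
  have h7 := Finset.card_sdiff_add_card_eq_card (s := Ψ) (t := Φ) fun b hb => ((mΨ b).1 hb).1
  omega

end Fm

end Cfsg.Agent.TO.G2D
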