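import Cfsg.Agent.TO.G2D.Abs
import Cfsg.Agent.KZ.ClD.D4Dat

/-!
# S4817, `³D₄(q)`: the finite checks (helper87)
-/

set_option autoImplicit false
set_option maxRecDepth 100000
set_option synthInstance.maxSize 4000

namespace Cfsg.Agent.TO.G2D

open Cfsg Cfsg.Lie Matrix Cfsg.Agent.KZ.DatX Cfsg.Agent.Nodes Cfsg.Agent.KZ.ClD
  Cfsg.Agent.ChevalleyStructure.CoxeterGeomTypes

/-- the roots -/
def rD : List V4 := [(1, 0, 0, 0), (0, 1, 0, 0), (0, 0, 1, 0), (0, 0, 0, 1), (1, 1, 0, 0), (0, 1, 1, 0), (0, 1, 0, 1),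
  (1, 1, 1, 0), (1, 1, 0, 1), (0, 1, 1, 1), (1, 1, 1, 1), (1, 2, 1, 1), (0, 0, 0, -1), (0, 0, -1, 0), (0, -1, 0, 0),
  (-1, 0, 0, 0), (0, -1, 0, -1), (0, -1, -1, 0), (-1, -1, 0, 0), (0, -1, -1, -1), (-1, -1, 0, -1), (-1, -1, -1, 0),
  (-1, -1, -1, -1), (-1, -2, -1, -1)]

/-- the roots as functions -/
def fD : Finset (Fin 4 → ℤ) := (rD.map toV).toFinset

/-- the coroots -/
def coD (a : Fin 4 → ℤ) : Fin 4 → ℤ := ![2 * a 0 - a 1, 2 * a 1 - a 0 - a 2 - a 3, 2 * a 2 - a 1, 2 * a 3 - a 1]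

/-- the invariant form -/
def qD (v : Fin 4 → ℤ) : ℤ := v 0 ^ 2 + 2 * v 1 ^ 2 + v 2 ^ 2 + v 3 ^ 2 + 2 * v 0 * v 1 + 2 * v 1 * v 2 + 2 * v 1 * v 3 +
  v 0 * v 2 + v 0 * v 3 + v 2 * v 3

/-- triality -/
def p4 : M4 := ((0, 0, 0, 1), (0, 1, 0, 0), (1, 0, 0, 0), (0, 0, 1, 0))

/-- scalar multiples -/
def sm4 (s : ℤ) (m : M4) : M4 := (sc s m.1, sc s m.2.1, sc s m.2.2.1, sc s m.2.2.2)

/-- a reflection -/
def rv (a x : V4) : V4 :=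
  x - sc (dt a x) (2 * a.1 - a.2.1, 2 * a.2.1 - a.1 - a.2.2.1 - a.2.2.2, 2 * a.2.2.1 - a.2.1, 2 * a.2.2.2 - a.2.1)

/-- the beginning of an orbit -/
def six (g : M4) (a : V4) : List V4 := [a, -a, vm a g, -vm a g, vm (vm a g) g, -vm (vm a g) g]

/-- the residues -/
def A3 : List V4 := [0, 1, 2] ×ˢ ([0, 1, 2] ×ˢ ([0, 1, 2] ×ˢ [0, 1, 2]))

/-- the elements of the coset without fixed points and of order three -/
def L8 : List M4 := [((-1, -1, -1, -1), (0, 0, 1, 0), (0, -1, -1, 0), (1, 1, 0, 0)),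
  ((-1, -1, -1, 0), (1, 1, 1, 1), (0, -1, -1, -1), (-1, -1, 0, -1)),
  ((-1, -1, 0, -1), (0, -1, -1, 0), (0, 1, 0, 0), (1, 1, 1, 0)), ((-1, -1, 0, 0), (1, 0, 0, 0), (0, 1, 0, 1), (-1, -1, -1, -1)),
  ((0, 1, 0, 0), (-1, -1, 0, 0), (1, 1, 0, 1), (0, -1, -1, -1)), ((0, 1, 0, 1), (-1, -2, -1, -1), (1, 1, 0, 0), (0, 1, 1, 0)),
  ((0, 1, 1, 0), (0, 0, 0, 1), (-1, -1, -1, -1), (0, -1, 0, -1)), ((0, 1, 1, 1), (0, -1, 0, -1), (-1, -1, -1, 0), (0, 1, 0, 0))]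

theorem toV_add (u v : V4) : toV (u + v) = toV u + toV v := by
  funext i
  fin_cases i <;> rfl

theorem toV_neg (u : V4) : toV (-u) = -toV u := by
  funext i
  fin_cases i <;> rfl

theorem toV_zero : toV 0 = 0 := by decide +kernel

theorem toM_sm4 (s : ℤ) (m : M4) : toM (sm4 s m) = s • toM m := by
  ext i j
  fin_cases i <;> exact congrFun (toV_sc s _) j

theorem toM_add (a b : M4) : toM (a + b) = toM a + toM b := by
  ext i j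
  fin_cases i <;> exact congrFun (toV_add _ _) j

theorem toM_zero : toM 0 = 0 := by decide +kernel

theorem toV_rv (a x : V4) : toV (rv a x) = rf coD (toV a) *ᵥ toV x := by
  funext i
  fin_cases i <;> simp [toV, rv, sc, dt, rf, coD, mulVec, dotProduct, Fin.sum_univ_four] <;> ring

theorem P4_eq : P4 = toM p4 := by decide +kernel

theorem sM_D : ∀ i, sM chevD4 4 i = toM (SG i) := by decide +kernel

theorem mem_fD {a : Fin 4 → ℤ} : a ∈ fD ↔ ∃ v ∈ rD, toV v = a := List.mem_toFinset.trans List.mem_map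

theorem rt_D {a : Fin 4 → ℤ} : X.Rt chevD4 4 a ↔ ∃ v ∈ rD, toV v = a :=
  ⟨fun ⟨s, h, e⟩ => e ▸ (by decide +kernel : ∀ s < chevD4.nroots, ∃ v ∈ rD, toV v = RGDChev.vec chevD4 4 s) s h,
    fun ⟨v, h, e⟩ => e ▸ (by decide +kernel : ∀ v ∈ rD, ∃ s < chevD4.nroots, RGDChev.vec chevD4 4 s = toV v) v h⟩

theorem wm_D {B : Matrix (Fin 4) (Fin 4) ℤ} (h : X.WM chevD4 4 B) : ∃ m ∈ LW, toM m = B := by
  obtain ⟨L, rfl⟩ := h
  induction L with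
  | nil => exact ⟨m1, m1_mem, toM_m1⟩
  | cons i L ih =>
    obtain ⟨m, h1, h2⟩ := ih
    exact ⟨_, closed m h1 i, by rw [toM_mm, h2, ← sM_D, List.map_cons, List.prod_cons]⟩

theorem qD_wm {B : Matrix (Fin 4) (Fin 4) ℤ} (h : X.WM chevD4 4 B) (v : Fin 4 → ℤ) : qD (B *ᵥ v) = qD v := by
  obtain ⟨L, rfl⟩ := h
  induction L with
  | nil => rw [List.map_nil, List.prod_nil, one_mulVec]
  | cons i L ih =>
    rw [List.map_cons, List.prod_cons, ← mulVec_mulVec, ← ih, sM_D]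
    generalize (L.map (sM chevD4 4)).prod *ᵥ v = w
    fin_cases i <;> simp [qD, SG, toM, toV, mulVec, dotProduct, Fin.sum_univ_four] <;> ring

theorem qD_smul (c : ℤ) (v : Fin 4 → ℤ) : qD (c • v) = c ^ 2 * qD v := by
  simp only [qD, Pi.smul_apply, smul_eq_mul]
  ring

theorem qD_par (u v : Fin 4 → ℤ) : qD (u + v) + qD (u + -v) = 2 * qD u + 2 * qD v := by
  simp only [qD, Pi.add_apply, Pi.neg_apply]
  ring

theorem qD_cong {u v : Fin 4 → ℤ} (h : ∀ i, 3 ∣ u i - v i) : 3 ∣ qD u - qD v := by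
  choose w hw using h
  obtain rfl : u = v + (3 : ℤ) • w := funext fun i => by rw [Pi.add_apply, Pi.smul_apply, smul_eq_mul, ← hw]; ring
  refine ⟨3 * qD w + (qD (v + w) - qD v - qD w), ?_⟩
  simp only [qD, Pi.add_apply, Pi.smul_apply, smul_eq_mul]
  ring

theorem exists_A3 {v : Fin 4 → ℤ} (h : ∀ i, 0 ≤ v i ∧ v i < (3 : ℕ)) : ∃ u ∈ A3, toV u = v := by
  have h1 : ∀ i, v i ∈ [(0 : ℤ), 1, 2] := fun i => by
    have := h i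
    simp only [List.mem_cons, List.not_mem_nil, or_false]
    omega
  exact ⟨_, List.pair_mem_product.2 ⟨h1 0, List.pair_mem_product.2 ⟨h1 1, List.pair_mem_product.2 ⟨h1 2, h1 3⟩⟩⟩, toV_surj v⟩

theorem card_fD : fD.card = 24 := by decide +kernel

theorem ckD0 : ∀ i, (∀ a ∈ fD, a ᵥ* sM chevD4 4 i ∈ fD) ∧ sM chevD4 4 i * sM chevD4 4 i = 1 := by decide +kernel

theorem ckD1 : ∀ m ∈ LW, mm (mm (mm m (mm m m)) (mm m (mm m m))) (mm (mm m (mm m m)) (mm m (mm m m))) = m1 ∧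
    (m ≠ m1 → mm m (mm m m) = m1 → ∃ a ∈ rD, ∃ b ∈ rD, vm a m = a + b) ∧
    ∀ i, toM m *ᵥ coD (toM m i) = cartanOf chevD4 4 i := by decide +kernel

theorem ckD2 : ∀ m ∈ LW, (∀ a ∈ rD, vm a (mm m p4) ∈ rD) ∧ ∀ a ∈ rD.take 4, (six (mm m p4) a).Nodup ∨
    ∃ b ∈ rD, (six (mm m p4) b).Nodup ∧ ∃ c ∈ rD, a = b + c ∧ (six (mm m p4) c).Nodup := by decide +kernel

theorem ckD3 : ∀ m ∈ LW, ∀ s ∈ [(1 : ℤ), -1], ∀ v ∈ A3, 3 ∣ qD (toV v) → e3 (mv m v) (sc s v) = true → e3 v 0 = false →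
    ∀ u ∈ A3, 3 ∣ qD (toV u) → e3 (mv m u) (sc s u) = true → 3 ∣ qD (toV (v + u)) →
      (∀ i ∈ [(0 : ℤ), 1, 2], e3 (sc i v) u = false) → m = sm4 s m1 := by decide +kernel

theorem ckD4 : ∀ m ∈ LW, ∀ s ∈ [(1 : ℤ), -1], ∀ v ∈ A3, 3 ∣ qD (toV v) → e3 (mv (sm4 s (mm m p4)) v) v = true →
    e3 v 0 = false → ∀ u ∈ A3, 3 ∣ qD (toV u) → e3 (mv (sm4 s (mm m p4)) u) u = true → 3 ∣ qD (toV (v + u)) →
      (∀ i ∈ [(0 : ℤ), 1, 2], e3 (sc i v) u = false) → sm4 s (mm m p4) ∈ L8 := by decide +kernel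

theorem ckD5 : ∀ g ∈ L8, mm g g + g + m1 = 0 ∧ ∀ v ∈ A3, e3 (mv g v) v = true → e3 v 0 = false → ∀ u ∈ A3,
    e3 (mv g u) u = true → (∀ i ∈ [(0 : ℤ), 1, 2], e3 (sc i v) u = false) → ∀ w ∈ A3, e3 (mv g w) w = true →
      ∃ i ∈ [(0 : ℤ), 1, 2], ∃ j ∈ [(0 : ℤ), 1, 2], e3 w (sc i v + sc j u) = true := by decide +kernel

theorem ckD6 : ∀ g ∈ L8, ∀ w ∈ LW, mm w (mm w w) = m1 → w ≠ m1 → mm w g = mm g w →
    ∃ a ∈ rD, a + vm a w + vm (vm a w) w = 0 ∧ ∃ b ∈ rD, b + vm b w + vm (vm b w) w = 0 ∧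
      ∃ x ∈ [((1 : ℤ), (0 : ℤ), (1 : ℤ), (2 : ℤ)), (0, 1, 0, 1), (1, 0, 2, 2), (1, 1, 0, 0), (0, 1, 0, 0), (1, 0, 2, 1), (0, 1, 1, 0)],
        ¬ 3 ∣ qD (toV x) ∧ e3 (rv a (rv b (mv g x))) x = true := by decide +kernel

end Cfsg.Agent.TO.G2D
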