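import Cfsg.Agent.TO.G2D.Gen
import Cfsg.Agent.TO.X.Iface

/-!
# S4817, `G₂(q)` and `³D₄(q)`: a stable torus in coordinates (helper87)

`Fm` collects what is used of a stable torus of `S = G ^ F`; `exists_fm`.
-/

set_option autoImplicit false
set_option linter.unusedSectionVars false

namespace Cfsg.Agent.TO.G2D

open CoxeterSystem Cfsg.Agent.ChevalleyStructure.CoxeterGeom Cfsg.Agent.Tits.Roots Cfsg.Agent.Nodes.Reps
  Cfsg.Agent.DL Cfsg.Agent.DL.PP Cfsg.Agent.Nodes Cfsg.Agent.Nodes.BNOf Matrix Cfsg.Lie Cfsg.Agent.KZ.DatX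
  Cfsg.Agent.ChevalleyStructure.CoxeterGeomTypes Cfsg.Agent.Nodes.RGDChev Cfsg.Agent.TO.X
open scoped commutatorElement

section Dat

variable {r : ℕ} [Fact r.Prime] {k : Type} [Field k] [CharP k r] {Y : Type} [Group Y] {N : Type} [Fintype N]
  [DecidableEq N] {ρ : Y →* GL N k} {F : MulAut Y} {G : Subgroup Y} [IsAlgClosed k] {D : Datum r ρ F G}

theorem cj_Wm {y : Y} (hy : y ∈ G) (hF : y⁻¹ * F y ∈ D.NN) (w : D.W) : (D.conj hy hF).Wm w = D.Wm w := by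
  obtain ⟨m, hm, -⟩ := D.exists_rp w
  refine mon_inj (k := k) fun c => (D.conj hy hF).τ_inj ?_
  rw [← (D.conj hy hF).conj_τ ((D.conj_rp_iff hy hF).2 hm), D.conj_tau, D.conj_tau, ← D.conj_τ hm]
  group

theorem cj_cor {y : Y} (hy : y ∈ G) (hF : y⁻¹ * F y ∈ D.NN) {a : D.I → ℤ} (ha : D.Rt a) :
    (D.conj hy hF).cor a = D.cor a := by
  obtain ⟨w, i, rfl⟩ := ha
  exact ((D.conj hy hF).cor_act_sr w i).trans (by rw [cj_Wm, D.cor_act_sr])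

theorem crd_conj {w : D.W} {m t : Y} (hm : D.Rp w m) (ht : t ∈ D.T) :
    D.crd (m * t * m⁻¹) = mon (D.Wm w) (D.crd t) := by
  conv_lhs => rw [← D.τ_crd ht, D.conj_τ hm, D.crd_τ]

theorem rp_pow {w : D.W} {m : Y} (hm : D.Rp w m) (n : ℕ) : D.Rp (w ^ n) (m ^ n) := by
  induction n with
  | zero => rw [pow_zero, pow_zero]; exact rp_one
  | succ n ih => rw [pow_succ, pow_succ]; exact ih.mul hm

theorem exists_wm {c c' : D.R → kˣ} {y : Y} (hy : y ∈ G) (h : y * D.τ c = D.τ c' * y) : ∃ w, c' = mon (D.Wm w) c := by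
  obtain ⟨-, -, m, ⟨w, hm⟩, h1, -⟩ := D.exists_conj_form (ι := Unit) (s := fun _ => D.τ c) (t := fun _ => D.τ c')
    (fun _ => D.τ_mem c) (fun _ => D.τ_mem c') hy fun _ => h
  exact ⟨w, D.τ_inj (by rw [← D.conj_τ hm, h1 (), mul_inv_cancel_right])⟩

/-- Lang's theorem in a subsystem -/
theorem lang_sub {Z : Set Y} (hZ : Z ⊆ D.T) (hF : ∀ z ∈ Z, F z = z) {a b : D.I → ℤ} (ha : a ∈ D.Sz Z) (hb : b ∈ D.Sz Z)
    {c : D.R → kˣ} (hc : mon (D.Wm (D.rf a) * D.Wm (D.rf b) * D.Mx) c = c) :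
    ∃ y ∈ G, F (y * D.τ c * y⁻¹) = y * D.τ c * y⁻¹ ∧ y * D.τ c * y⁻¹ ∈ Subgroup.centralizer Z := by
  have h1 : ∀ a ∈ D.Sz Z, ∃ m ∈ D.cen Z, D.Rp (D.rf a) m := fun a ha =>
    (D.exists_rp_rf ha.1).imp fun m hm => ⟨(sup_le_sup_left (sup_le (RGD.le_Sup ha) (RGD.le_Sup (D.Sz_neg ha))) _) hm.1,
      hm.2⟩
  obtain ⟨m, h2, h3⟩ := h1 a ha
  obtain ⟨n, h4, h5⟩ := h1 b hb
  obtain ⟨y, hy, e⟩ := D.lang_TS D.Sz_root (fun _ => D.g_mem_Sz hZ fun z hz => by rwa [hF z hz]) (mul_mem h2 h4)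
  have h6 := D.conj_τ (h3.mul h5) (mon D.Mx c)
  rw [D.Wm_mul, ← mon_mul, hc, ← D.F_τ, e] at h6
  refine ⟨y, D.cen_le_G Z hy, ?_, D.cen_le_centralizer hZ (mul_mem (mul_mem hy (D.T_le_cen Z (D.τ_mem c))) (inv_mem hy))⟩
  rw [map_mul, map_mul, map_inv]
  conv_rhs => rw [← h6]
  group

theorem map_comm {α : MulAut Y} {u : Y} (hα : α u = u) {x : Y}
    (hx : x ∈ ⁅Subgroup.centralizer ({u} : Set Y), Subgroup.centralizer ({u} : Set Y)⁆) :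
    α x ∈ ⁅Subgroup.centralizer ({u} : Set Y), Subgroup.centralizer ({u} : Set Y)⁆ := by
  have h : (Subgroup.centralizer ({u} : Set Y)).map α.toMonoidHom ≤ Subgroup.centralizer ({u} : Set Y) := by
    rintro _ ⟨y, hy, rfl⟩
    rw [SetLike.mem_coe, Subgroup.mem_centralizer_singleton_iff] at hy
    rw [Subgroup.mem_centralizer_singleton_iff, ← hα]
    exact (map_mul α _ _).symm.trans ((congrArg α hy).trans (map_mul α _ _))
  exact Subgroup.commutator_mono h h (Subgroup.map_commutator _ _ α.toMonoidHom ▸ Subgroup.mem_map_of_mem _ hx)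

end Dat

section Str

variable {R : Type} [Fintype R] [DecidableEq R]

/-- the matrix of a reflection -/
def rf (co : (R → ℤ) → R → ℤ) (a : R → ℤ) : Matrix R R ℤ := 1 - vecMulVec (co a) a

/-- A stable torus in coordinates; the Steinberg endomorphism acts by the matrix `N`. -/
structure Fm (R : Type) [Fintype R] [DecidableEq R] (k : Type) [Field k] (S : Type) [Group S] (p : ℕ)
    (Rt : (R → ℤ) → Prop) (co : (R → ℤ) → R → ℤ) (Wy Adm : Matrix R R ℤ → Prop) (N : Matrix R R ℤ) where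
  T : Subgroup S
  c : S → R → kˣ
  Cj : S → (R → kˣ) → Prop
  mul : ∀ g ∈ T, ∀ h ∈ T, c (g * h) = c g * c h
  inj : ∀ g ∈ T, ∀ h ∈ T, c g = c h → g = h
  fix : ∀ g ∈ T, mon N (c g) = c g
  ex : ∀ e, mon N e = e → ∃ g ∈ T, c g = e
  cj : ∀ g ∈ T, Cj g (c g)
  cj_pow : ∀ g e, Cj g e → ∀ n : ℕ, (g ^ n = 1 ↔ e ^ n = 1)
  aut : ∀ (σ : MulAut S) g e e', Cj g e → Cj (σ g) e' → ∃ B A, Wy B ∧ Adm A ∧ e' = mon (B * A) e
  nrm : ∀ Z : Set S, Z ⊆ T → (∀ a, Rt a → ∃ z ∈ Z, chr a (c z) ≠ 1) → ∀ y, (∀ z ∈ Z, y⁻¹ * z * y ∈ Z) →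
    ∃ B, Wy B ∧ B * N = N * B ∧ (∀ g ∈ T, y * g * y⁻¹ ∈ T ∧ c (y * g * y⁻¹) = mon B (c g)) ∧ (B = 1 → y ∈ T) ∧
      ∀ n : ℕ, y ^ n = 1 → B ^ n = 1
  lt : ∀ Z : Set S, Z ⊆ T → ∀ a b, Rt a → Rt b → (∀ z ∈ Z, chr a (c z) = 1 ∧ chr b (c z) = 1) →
    ∀ e, mon (rf co a * rf co b * N) e = e → ∃ u, Cj u e ∧ ∀ z ∈ Z, z * u = u * z
  sl2 : ∀ u ∈ T, u ^ p = 1 → ∀ a, Rt a → (∀ b, Rt b → (chr b (c u) = 1 ↔ b = a ∨ b = -a)) →
    ∃ K : Subgroup S, (∀ σ : MulAut S, σ u = u → ∀ x ∈ K, σ x ∈ K) ∧ (∀ x ∈ K, x ∈ T → ∃ t, c x = coch (co a) t) ∧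
      ∃ x ∈ K, ∀ g ∈ T, x * g * x⁻¹ ∈ T ∧ c (x * g * x⁻¹) = mon (rf co a) (c g)

end Str

section Con

variable {r : ℕ} [Fact r.Prime] {k : Type} [Field k] [CharP k r] {Y : Type} [Group Y] {N : Type} [Fintype N]
  [DecidableEq N] {ρ : Y →* GL N k} {F : MulAut Y} [IsAlgClosed k]

/-- the input -/
structure In0 (D : Datum r ρ F ⊤) (S : Type) [Group S] (p : ℕ) (Rt : (D.R → ℤ) → Prop) (co : (D.R → ℤ) → D.R → ℤ)
    (Wy Adm : Matrix D.R D.R ℤ → Prop) where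
  ι : S →* Y
  inj : Function.Injective ι
  fix : ∀ g, F (ι g) = ι g
  ex : ∀ y, F y = y → ∃ g, ι g = y
  aut : ∀ σ : MulAut S, ∃ g α A, Au D α A ∧ Adm A ∧ ∀ s, ι (σ s) = g * α (ι s) * g⁻¹
  prime : p.Prime
  cw : Cw D p
  rt : ∀ a, Rt a ↔ ∃ b, D.Rt b ∧ D.wt b = a
  cor : ∀ b, D.Rt b → D.cor b = co (D.wt b)
  wy : ∀ w, Wy (D.Wm w)

variable {D : Datum r ρ F ⊤} {S : Type} [Group S] {p : ℕ} {Rt : (D.R → ℤ) → Prop} {co : (D.R → ℤ) → D.R → ℤ}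
  {Wy Adm : Matrix D.R D.R ℤ → Prop} (s : In0 D S p Rt co Wy Adm) {y : Y} (hF : y⁻¹ * F y ∈ D.NN)

/-- the conjugate datum -/
noncomputable abbrev cD : Datum r ρ F ⊤ := D.conj (Subgroup.mem_top y) hF

theorem act_of {g : S} {w : D.W} (hw : (cD hF).Rp w (s.ι g)) (t : S) (ht : s.ι t ∈ (cD hF).T) :
    s.ι (g * t * g⁻¹) ∈ (cD hF).T ∧ (cD hF).crd (s.ι (g * t * g⁻¹)) = mon (D.Wm w) ((cD hF).crd (s.ι t)) := by
  rw [map_mul, map_mul, map_inv, ← cj_Wm (Subgroup.mem_top y) hF]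
  exact ⟨(cD hF).conj_mem_T ⟨w, hw⟩ ht, crd_conj hw ht⟩

include s in
theorem Wm_rf {a : D.I → ℤ} (ha : D.Rt a) : (cD hF).Wm ((cD hF).rf a) = rf co (D.wt a) := by
  refine ((cD hF).Wm_rf ha).trans ?_
  rw [cj_cor _ _ ha, s.cor a ha]
  rfl

theorem chi_iff {a : D.I → ℤ} {t : Y} : (cD hF).χ a t = 1 ↔ chr (D.wt a) ((cD hF).crd t) = 1 :=
  Units.val_eq_one

/-- the frame -/
noncomputable def fm : Fm D.R k S p Rt co Wy Adm (D.Wm (D.pr (y⁻¹ * F y)) * D.Mx) where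
  T := (cD hF).T.comap s.ι
  c g := (cD hF).crd (s.ι g)
  Cj g e := ∃ a, s.ι g = a * D.τ e * a⁻¹
  mul g hg h hh := by rw [map_mul]; exact (cD hF).crd_mul hg hh
  inj g hg h hh e := s.inj (by rw [← (cD hF).τ_crd hg, ← (cD hF).τ_crd hh]; exact congrArg _ e)
  fix g hg := (cD hF).τ_inj (((cD hF).F_τ _).symm.trans (by rw [(cD hF).τ_crd hg]; exact s.fix g))
  ex e he := by
    obtain ⟨g, hg⟩ := s.ex _ (((cD hF).F_τ e).trans (congrArg _ he))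
    exact ⟨g, by rw [Subgroup.mem_comap, hg]; exact (cD hF).τ_mem e, by rw [hg]; exact (cD hF).crd_τ e⟩
  cj g hg := ⟨y, ((cD hF).τ_crd hg).symm⟩
  cj_pow := by
    rintro g e ⟨a, h⟩ n
    rw [← map_eq_one_iff _ s.inj, map_pow, h, conj_pow, conj_eq_one_iff, ← map_pow]
    exact map_eq_one_iff _ D.τ_inj
  aut := by
    rintro σ g e e' ⟨a, h⟩ ⟨a', h'⟩
    obtain ⟨x, α, A, h1, h2, h3⟩ := s.aut σ
    rw [h3, h, map_mul, map_mul, map_inv, h1.tau] at h'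
    obtain ⟨w, hw⟩ := exists_wm (D := D) (c := mon A e) (c' := e') (Subgroup.mem_top (a'⁻¹ * x * α a)) (by
      rw [show D.τ e' = a'⁻¹ * (a' * D.τ e' * a'⁻¹) * a' by group, ← h']; group)
    exact ⟨_, A, s.wy w, h2, hw.trans (mon_mul _ _ _).symm⟩
  nrm Z hZ h0 g hg := by
    obtain ⟨w, hw⟩ := nrm (cD hF) (Z := s.ι '' Z) (by rintro _ ⟨z, hz, rfl⟩; exact hZ hz)
      (Set.eq_empty_of_forall_notMem fun a ha => by
        obtain ⟨z, hz, h1⟩ := h0 _ ((s.rt _).2 ⟨a, ha.1, rfl⟩)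
        exact h1 ((chi_iff hF).1 (ha.2 _ ⟨z, hz, rfl⟩))) (Subgroup.mem_top (s.ι g)) (by
        rintro _ ⟨z, hz, rfl⟩
        exact ⟨_, hg z hz, by rw [map_mul, map_mul, map_inv]⟩)
    refine ⟨_, s.wy w, ?_, act_of s hF hw, fun h => ?_, fun n hn => ?_⟩
    · have h1 := (cD hF).Mx_Wm w
      rw [(cD hF).Fw_eq_of_fix hw (s.fix g), cj_Wm] at h1
      exact h1.symm
    · rw [D.Wm_injective (h.trans D.Wm_one.symm)] at hw
      exact hw.mem_of_one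
    · have h1 := rp_pow hw n
      rw [← map_pow, hn, map_one] at h1
      exact (map_pow D.WmHom w n).symm.trans ((congrArg _ ((cD hF).rp_unique h1 rp_one)).trans (map_one _))
  lt Z hZ a b ha hb h e he := by
    obtain ⟨a, ha', rfl⟩ := (s.rt a).1 ha
    obtain ⟨b, hb', rfl⟩ := (s.rt b).1 hb
    obtain ⟨x, -, h1, h2⟩ := lang_sub (D := cD hF) (Z := s.ι '' Z) (by rintro _ ⟨z, hz, rfl⟩; exact hZ hz)
      (by rintro _ ⟨z, -, rfl⟩; exact s.fix z) (a := a) (b := b)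
      ⟨ha', by rintro _ ⟨z, hz, rfl⟩; exact (chi_iff hF).2 (h z hz).1⟩
      ⟨hb', by rintro _ ⟨z, hz, rfl⟩; exact (chi_iff hF).2 (h z hz).2⟩ (c := e)
      (by rw [Wm_rf s hF ha', Wm_rf s hF hb']; exact he)
    obtain ⟨u, hu⟩ := s.ex _ h1
    refine ⟨u, ⟨x * y, by rw [hu, Datum.conj_tau]; group⟩, fun z hz => s.inj ?_⟩
    rw [map_mul, map_mul, hu]
    exact h2 _ ⟨z, hz, rfl⟩
  sl2 u hu hup a ha h := by
    obtain ⟨a, ha', rfl⟩ := (s.rt a).1 ha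
    have hZ : ({s.ι u} : Set _) ⊆ (cD hF).T := Set.singleton_subset_iff.2 hu
    have h0 : ∀ b, D.Rt b → ((cD hF).χ b (s.ι u) = 1 ↔ b = a ∨ b = -a) := fun b hb => by
      rw [chi_iff, h _ ((s.rt _).2 ⟨b, hb, rfl⟩), ← map_neg, D.wt_injective.eq_iff, D.wt_injective.eq_iff]
    have h1 : (cD hF).Sz {s.ι u} = {a, -a} := Set.ext fun b => ⟨fun hb => (h0 b hb.1).1 (hb.2 _ rfl), fun hb =>
      ⟨rt_pair (D := D) ha' b hb, fun _ e => e ▸ (h0 b (rt_pair (D := D) ha' b hb)).2 hb⟩⟩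
    have h2 : Subgroup.centralizer ({s.ι u} : Set _) = (cD hF).cen {s.ι u} :=
      le_antisymm (fun x hx => conn (cD hF) s.prime s.cw hu (by rw [← map_pow, hup, map_one]) (s.fix u) trivial
        (Subgroup.mem_centralizer_singleton_iff.1 hx)) ((cD hF).cen_le_centralizer hZ)
    have h3 : ⁅Subgroup.centralizer ({s.ι u} : Set _), Subgroup.centralizer ({s.ι u} : Set _)⁆ = (cD hF).S {a, -a} := by
      rw [h2, comm_eq, h1]
    refine ⟨((cD hF).S {a, -a}).comap s.ι, fun σ hσ x hx => ?_, fun x hx ht => ?_, ?_⟩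
    · obtain ⟨g, α, A, -, -, h4⟩ := s.aut σ
      rw [Subgroup.mem_comap, ← h3] at hx ⊢
      rw [h4]
      exact map_comm (α := MulAut.conj g * α) ((h4 u).symm.trans (congrArg _ hσ)) hx
    · obtain ⟨e, he⟩ := rank_T (D := cD hF) ha' ht hx
      exact ⟨e, by rw [he, (cD hF).crd_τ, cj_cor _ _ ha', s.cor a ha']⟩
    · obtain ⟨m, h4, h5, h6⟩ := exists_fix_rf (D := cD hF) ha' (by
        have h4 := (cD hF).g_mem_Sz hZ (fun z hz => by rw [hz, s.fix]; rfl) (h1.ge (.inl rfl))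
        rwa [h1] at h4)
      obtain ⟨x, rfl⟩ := s.ex _ h6
      refine ⟨x, h4, fun g hg => ?_⟩
      rw [← Wm_rf s hF ha', cj_Wm]
      exact act_of s hF h5 g hg

include s in
theorem In0.exists_fm (hr : p ≠ r) {z x : S} (hz : z ^ p = 1) (hx : x ^ p = 1) (hc : x * z = z * x) :
    ∃ B, Wy B ∧ ∃ f : Fm D.R k S p Rt co Wy Adm (B * D.Mx), z ∈ f.T ∧ x ∈ f.T := by
  obtain ⟨y, hy, hF, h1, h2⟩ := toral D s.prime hr s.cw ⟨trivial, s.fix z⟩ ⟨trivial, s.fix x⟩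
    (by rw [← map_pow, hz, map_one]) (by rw [← map_pow, hx, map_one]) (by rw [← map_mul, hc, map_mul])
  exact ⟨_, s.wy _, fm s hF, h1, h2⟩

theorem cor_eq {co : (D.R → ℤ) → D.R → ℤ} (hco : ∀ w i, D.Wm w *ᵥ co (D.wt (sr i) ᵥ* D.Wm w) = D.cw i)
    {a : D.I → ℤ} (ha : D.Rt a) : D.cor a = co (D.wt a) := by
  obtain ⟨w, i, rfl⟩ := ha
  have h1 := D.wt_act' w⁻¹ (sr i)
  rw [inv_inv] at h1
  rw [D.cor_act_sr, ← hco w⁻¹ i, mulVec_mulVec, ← D.Wm_mul, mul_inv_cancel, D.Wm_one, one_mulVec, ← h1]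

theorem cw_of {p : ℕ} (h : ∀ w, D.Wm w ≠ 1 → D.Wm w ^ p = 1 → ∃ a b, D.Rt a ∧ D.Rt b ∧ D.wt a ᵥ* D.Wm w = D.wt a + D.wt b) :
    Cw D p := fun w h1 h2 => by
  obtain ⟨a, b, ha, hb, e⟩ := h w⁻¹ (fun h => h1 (inv_eq_one.1 (D.Wm_injective (h.trans D.Wm_one.symm))))
    ((map_pow D.WmHom _ p).symm.trans (by rw [inv_pow, h2, inv_one, map_one]))
  rw [← D.wt_act', inv_inv, ← map_add, D.wt_injective.eq_iff] at e
  exact ⟨a, ha, by rwa [e, add_sub_cancel_left]⟩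

end Con

variable {l : ℕ} {C : ChevalleyDatum} {M : CoxeterMatrix (Fin l)} {hp : IsType C l M} {r : ℕ} [Fact r.Prime] {k : Type}
  [Field k] [CharP k r] [IsAlgClosed k] {Mx : Matrix (Fin l) (Fin l) ℤ} {X : XF hp r k Mx}

theorem wm_Wm (w : X.D.W) : WM C l (X.D.Wm w) := (X.exists_word w).imp fun _ h => h.2

/-- two commuting elements of order `p` lie in a frame -/
theorem exists_fm {Adm : Matrix (Fin l) (Fin l) ℤ → Prop} {S : Type} [Group S] (s : XS X Adm 1 S) {p : ℕ} (hq : p.Prime)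
    (hW : ∀ B, WM C l B → B ≠ 1 → B ^ p = 1 → ∃ a b, Rt C l a ∧ Rt C l b ∧ a ᵥ* B = a + b)
    {co : (Fin l → ℤ) → Fin l → ℤ} (hco : ∀ B, WM C l B → ∀ i, B *ᵥ co (B i) = cartanOf C l i) (hr : p ≠ r) {z x : S}
    (hz : z ^ p = 1) (hx : x ^ p = 1) (hc : x * z = z * x) :
    ∃ B, WM C l B ∧ ∃ f : Fm (Fin l) k S p (Rt C l) co (WM C l) Adm (B * Mx), z ∈ f.T ∧ x ∈ f.T :=
  In0.exists_fm (D := X.D) (Rt := Rt C l) (co := co) (Wy := WM C l) (Adm := Adm)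
    { ι := s.ι
      inj := s.ov.inj
      fix g := (s.ov.mem g).2
      ex y h := s.ov.range_eq.ge (⟨trivial, h⟩ : y ∈ GF X.F ⊤)
      aut σ := let ⟨g, _, h⟩ := s.aut σ; ⟨g, h⟩
      prime := hq
      cw := cw_of fun w h1 h2 => let ⟨a, b, ha, hb, e⟩ := hW _ (wm_Wm w) h1 h2
        ⟨a, b, (X.rt_iff a).2 ha, (X.rt_iff b).2 hb, e⟩
      rt a := ⟨fun h => ⟨a, (X.rt_iff a).2 h, rfl⟩, fun ⟨b, h, e⟩ => e ▸ (X.rt_iff b).1 h⟩
      cor _ := cor_eq fun w i => (congrArg (fun v => X.D.Wm w *ᵥ co v) (single_one_vecMul i _)).trans (hco _ (wm_Wm w) i)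
      wy := wm_Wm } hr hz hx hc

end Cfsg.Agent.TO.G2D
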